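import Cfsg.Agent.SP.Pos.HN.MatChk

/-! # HN: kernel checks, generators -/

set_option autoImplicit false

namespace Cfsg.Agent.SP.PosB.HN

open Cfsg.Agent.HN.Rep (L)

theorem cB : chkSlp wsB L MB = true := by decide +kernel
theorem cZ : chkSlp wsZ (MB :: L) MZ = true := by decide +kernel
theorem cA : chkSlp wsA [MB, MZ] MA = true := by decide +kernel
theorem cAI : chkInv MA MAI = true := by decide +kernel
theorem cBI : chkInv MB MBI = true := by decide +kernel

end Cfsg.Agent.SP.PosB.HN
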