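import Cfsg.Agent.SP.Pos.HN.MatChk

/-! # HN: kernel checks, traces -/

set_option autoImplicit false

namespace Cfsg.Agent.SP.PosB.HN

theorem ts1 : chkTr LM 3 [1, 1, 3, 1, 3, 0, 3, 3, 0] 7 = true := by decide +kernel
theorem ts2 : chkTr LM 2 [2, 2, 2] 29 = true := by decide +kernel
theorem ts3 : chkTr LM 2 [0, 2, 0, 2, 0, 2, 0] 29 = true := by decide +kernel
theorem tc : chkTr LM 0 [0, 0, 0, 0, 0, 0] 7 = true := by decide +kernel
theorem tx19 : chkTr LM 0 [2, 4, 3] 0 = true := by decide +kernel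

end Cfsg.Agent.SP.PosB.HN
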