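import Cfsg.Agent.SP.Pos.HN.Lists

/-! # HN: the class distribution of `U₃(8):3` -/

set_option autoImplicit false

namespace Cfsg.Agent.SP.PosB.HN

open Finset Cfsg.Agent.H651.HNF
open Cfsg.Agent.Lib.PackMatGroup (evG evG_map get)
open Cert (getW)

/-- the images of the letters in the group of order three -/
def LZ : List Z3 := [1, 1, Multiplicative.ofAdd 1, Multiplicative.ofAdd 2, 1]

section Types
variable {T : Type} [Group T] {ty : T → Ty} (Tb : Table T ty)
include Tb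

theorem ty_ord {g : T} {n : ℕ} (h : orderOf g = n) (h5 : ¬ 5 ∣ n) : ty g ≠ .sing ∧ (ty g).ord = n := by
  have : ty g ≠ .sing := fun e => h5 (h ▸ (Tb.sing g).1 e)
  exact ⟨this, (Tb.ord g this).symm.trans h⟩

theorem ty2 {g : T} (h : ty g ≠ .sing) : ty (g ^ 2) = (ty g).sq := Tb.pow g 2 Nat.prime_two h
theorem ty3 {g : T} (h : ty g ≠ .sing) : ty (g ^ 3) = (ty g).cu := Tb.pow g 3 Nat.prime_three h
theorem ty5 {g : T} (h : ty g ≠ .sing) : ty (g ^ 5) = ty g := by
  rw [Tb.pow g 5 Nat.prime_five h]; cases ty g <;> rfl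

omit Tb in
theorem sq_ne : ∀ t : Ty, t ≠ .sing → t.sq ≠ .sing := by decide

theorem ty4 {g : T} (h : ty g ≠ .sing) : ty (g ^ 4) = (ty g).sq.sq := by
  rw [← ty2 Tb h, ← ty2 Tb (by rw [ty2 Tb h]; exact sq_ne _ h), ← pow_mul]
theorem ty6 {g : T} (h : ty g ≠ .sing) : ty (g ^ 6) = (ty g).sq.cu := by
  rw [← ty2 Tb h, ← ty3 Tb (by rw [ty2 Tb h]; exact sq_ne _ h), ← pow_mul]
theorem ty10 {g : T} (h : ty g ≠ .sing) : ty (g ^ 10) = (ty g).sq := by
  rw [← ty2 Tb h, ← ty5 Tb (g := g ^ 2) (by rw [ty2 Tb h]; exact sq_ne _ h), ← pow_mul]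

theorem ty_inv (g : T) [Finite T] : ty g⁻¹ = ty g := by
  by_cases h : ty g = .sing
  · rw [h, Tb.sing, orderOf_inv]; exact (Tb.sing g).1 h
  · have h0 := orderOf_pos g
    have e : g⁻¹ = g ^ (orderOf g - 1) := by
      rw [eq_comm, eq_inv_iff_mul_eq_one, ← pow_succ, Nat.sub_add_cancel h0, pow_orderOf_eq_one]
    rw [e, Tb.real g h]
    exact (Nat.coprime_self_sub_left h0).2 (Nat.coprime_one_left _)

end Types

theorem rep1 {K : Type} [Group K] {LK : List K} {S : K → Prop} {w : List ℕ} {m : ℕ} (h0 : S (evG LK w ^ m)) :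
    ∀ i < 1, S (evG LK (getW [w] i) ^ get [m] i) := by
  intro i hi
  interval_cases i
  exact h0

theorem rep2 {K : Type} [Group K] {LK : List K} {S : K → Prop} {w w' : List ℕ} {m m' : ℕ} (h0 : S (evG LK w ^ m))
    (h1 : S (evG LK w' ^ m')) : ∀ i < 2, S (evG LK (getW [w, w'] i) ^ get [m, m'] i) := by
  intro i hi
  interval_cases i
  exacts [h0, h1]

/-- the situation -/
structure Setup {T : Type} [Group T] (ty : T → Ty) {K : Type} [Group K] [Fintype K] [MulAction K (Fin 513)]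
    (LK : List K) (ι : K →* T) (lam : K →* Z3) (tr : T → ZMod 31) : Prop where
  tb : Table T ty
  h19 : ∀ g, ty g = .c19 → ¬ IsConj g g⁻¹
  M : Model K LK
  card : Fintype.card K ≤ 16547328
  lamL : LK.map lam = LZ
  trc : ∀ g h, IsConj g h → tr g = tr h
  tr1 : tr 1 = 9
  ts1 : tr (ι (evG LK s1)) = 7
  ts2 : tr (ι (evG LK [2, 2, 2, 2])) = 29
  ts3 : tr (ι (evG LK s3)) = 29
  tc : tr (ι (evG LK [0, 0, 0, 0, 0, 0, 0])) = 7
  tx : tr (ι (evG LK x19)) = 0

namespace Setup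

variable {T : Type} [Group T] {ty : T → Ty} {K : Type} [Group K] [Fintype K] [MulAction K (Fin 513)]
  {LK : List K} {ι : K →* T} {lam : K →* Z3} {tr : T → ZMod 31} (S : Setup ty LK ι lam tr)
include S

theorem htr (p q : Fin 513) (h : p ≠ q) : ∃ g : K, g • (0 : Fin 513) = p ∧ g • (1 : Fin 513) = q :=
  S.M.trans_of cT1 cT2 p q h

theorem hcard : Fintype.card K = 16547328 := (S.M.base S.htr S.card okH cH lH).1

theorem hH : Nat.card (MulAction.stabilizer K (0 : Fin 513) ⊓ MulAction.stabilizer K (1 : Fin 513) : Subgroup K) = 63 :=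
  (S.M.base S.htr S.card okH cH lH).2.1

theorem hb : ∀ k : K, k • (0 : Fin 513) = 0 → k • (1 : Fin 513) = 1 → k • (6 : Fin 513) = 6 → k = 1 :=
  (S.M.base S.htr S.card okH cH lH).2.2

theorem lam_ev (w : List ℕ) (m : ℕ) : lam (evG LK w ^ m) = evG LZ w ^ m := by
  rw [map_pow, ← evG_map, S.lamL]

theorem card_stab : Nat.card (MulAction.stabilizer K (0 : Fin 513)) = 32256 := by
  have : MulAction.IsPretransitive K (Fin 513) := ⟨fun p q => by
    obtain ⟨p', hp⟩ := exists_ne p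
    obtain ⟨q', hq⟩ := exists_ne q
    obtain ⟨g, hg, -⟩ := S.htr p p' hp.symm
    obtain ⟨h, hh, -⟩ := S.htr q q' hq.symm
    exact ⟨h * g⁻¹, by rw [← hg, mul_smul, inv_smul_smul, hh]⟩⟩
  have h1 := (MulAction.stabilizer K (0 : Fin 513)).card_mul_index
  rw [MulAction.index_stabilizer_of_transitive, Nat.card_fin, Nat.card_eq_fintype_card (α := K), S.hcard] at h1
  omega

theorem inj : Function.Injective ι := by
  rw [injective_iff_map_eq_one]
  intro k hk
  by_contra hk1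
  have h1 : ∃ p : Fin 513, p ≠ k • p := by
    by_contra h
    push Not at h
    exact hk1 (S.hb k (h _).symm (h _).symm (h _).symm)
  obtain ⟨p, hp⟩ := h1
  obtain ⟨g, hg0, hg1⟩ := S.htr _ _ hp
  have h2 : ∀ r : Fin 513, ∃ n : K, ι n = 1 ∧ n • (0 : Fin 513) = r := by
    intro r
    by_cases hr : (0 : Fin 513) = r
    · exact ⟨1, map_one _, by rw [one_smul, hr]⟩
    obtain ⟨h, hh0, hh1⟩ := S.htr _ _ hr
    refine ⟨h * g⁻¹ * k * g * h⁻¹, by simp [hk], ?_⟩
    rw [mul_smul, mul_smul, mul_smul, mul_smul, inv_smul_eq_iff.2 hh0.symm, hg0, ← hg1, inv_smul_smul, hh1]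
  obtain ⟨n, hn, hn0⟩ := h2 (evG LK x19 • 0)
  have h3 : n⁻¹ * evG LK x19 ∈ MulAction.stabilizer K (0 : Fin 513) := by
    rw [MulAction.mem_stabilizer_iff, mul_smul, ← hn0, inv_smul_smul]
  have h4 := Subgroup.orderOf_dvd_natCard _ h3
  have h5 := orderOf_map_dvd ι (n⁻¹ * evG LK x19)
  rw [map_mul, map_inv, hn, inv_one, one_mul] at h5
  have h6 := orderOf_map_dvd ι (evG LK x19)
  rw [S.M.ord_of_chk S.hb (by decide) (by decide) ox19] at h6
  rcases (Nat.dvd_prime (by decide)).1 h6 with h7 | h7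
  · have := S.tx
    rw [orderOf_eq_one_iff.1 h7, S.tr1] at this
    exact absurd this (by decide)
  · have := h5.trans h4
    rw [h7, S.card_stab] at this
    exact absurd this (by decide)

theorem ord {u : List ℕ} {n : ℕ} (hn : 0 < n) (hn' : n ≤ 2 ^ 5) (h5 : ¬ 5 ∣ n) (h : chkOrd u n = true) :
    ty (ι (evG LK u)) ≠ .sing ∧ (ty (ι (evG LK u))).ord = n :=
  ty_ord S.tb (by rw [orderOf_injective ι S.inj, S.M.ord_of_chk S.hb hn hn' h]) h5

theorem eqv {u v : List ℕ} {k l : ℕ} (h : chkEq u k v l = true) : ι (evG LK u) ^ k = ι (evG LK v) ^ l := by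
  rw [← map_pow, ← map_pow, S.M.eq_of_chk S.hb h]

theorem tya : ty (ι (evG LK [0])) = .c21 := by
  have := (S.ord (by decide) (by decide) (by decide) oa).2
  revert this; cases ty (ι (evG LK [0])) <;> decide

theorem tyc : ty (ι (evG LK [0]) ^ 7) = .c3A := by
  rw [S.tb.pow _ 7 (by decide) (by rw [S.tya]; decide), S.tya]; rfl

theorem ty12C {u s : List ℕ} (ho : chkOrd u 12 = true) (he : chkEq s 1 u 4 = true) (ht : tr (ι (evG LK s)) = 29) :
    ty (ι (evG LK u)) = .c12C := by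
  obtain ⟨h1, h2⟩ := S.ord (by decide) (by decide) (by decide) ho
  have h3 := ty4 S.tb h1
  have h4 : ty (ι (evG LK u) ^ 4) ≠ .c3A := by
    intro e
    have := S.trc _ _ (S.tb.conj _ _ (e.trans S.tyc.symm) (by rw [e]; decide) (by rw [e]; decide))
    rw [← S.eqv he, ← S.eqv ec, pow_one, pow_one, ht, S.tc] at this
    exact absurd this (by decide)
  rw [h3] at h4
  revert h2 h4; cases ty (ι (evG LK u)) <;> decide

theorem tyy2 : ty (ι (evG LK [2])) = .c12C := S.ty12C oy2 es2 S.ts2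
theorem tyy3 : ty (ι (evG LK y3)) = .c12C := S.ty12C oy3 es3 S.ts3

theorem tyu : ty (ι (evG LK [2]) ^ 6) = .c2B := by
  rw [ty6 S.tb (by rw [S.tyy2]; decide), S.tyy2]; rfl

theorem tyy1 : ty (ι (evG LK y1)) = .c12B := by
  obtain ⟨h1, h2⟩ := S.ord (by decide) (by decide) (by decide) oy1
  have h3 := ty4 S.tb h1
  have h5 := ty6 S.tb h1
  rw [S.eqv ey1, S.tyu] at h5
  have h4 : ty (ι (evG LK y1) ^ 4) ≠ .c3B := by
    intro e
    have e2 : ty (ι (evG LK [2]) ^ 4) = .c3B := by rw [ty4 S.tb (by rw [S.tyy2]; decide), S.tyy2]; rfl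
    have := S.trc _ _ (S.tb.conj _ _ (e.trans e2.symm) (by rw [e]; decide) (by rw [e]; decide))
    rw [← S.eqv es1, ← S.eqv es2, pow_one, pow_one, S.ts1, S.ts2] at this
    exact absurd this (by decide)
  rw [h3] at h4
  revert h2 h4 h5; cases ty (ι (evG LK y1)) <;> decide

theorem tyc2 : ty (ι (evG LK [0]) ^ 14) = .c3A := by
  rw [show 14 = 7 * 2 from rfl, pow_mul, ty2 S.tb (by rw [S.tyc]; decide), S.tyc]; rfl

theorem tyv : ty (ι (evG LK v6)) = .c6B := by
  obtain ⟨h1, h2⟩ := S.ord (by decide) (by decide) (by decide) ov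
  have h3 := ty2 S.tb h1
  have h4 := ty3 S.tb h1
  rw [S.eqv ev2, S.tyc2] at h3
  rw [S.eqv ev3, S.tyu] at h4
  revert h2 h3 h4; cases ty (ι (evG LK v6)) <;> decide

theorem ty9 {u : List ℕ} (ho : chkOrd u 9 = true) : ty (ι (evG LK u)) = .c9 := by
  have := (S.ord (by decide) (by decide) (by decide) ho).2
  revert this; cases ty (ι (evG LK u)) <;> decide

theorem tyx : ty (ι (evG LK x19)) = .c19 := by
  have := (S.ord (by decide) (by decide) (by decide) ox19).2
  revert this; cases ty (ι (evG LK x19)) <;> decide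

theorem cinv (c : Z3) (t : Ty) (g k : K) (h : lam k = c ∧ ty (ι k) = t) :
    lam (g * k * g⁻¹) = c ∧ ty (ι (g * k * g⁻¹)) = t := by
  refine ⟨by rw [map_mul, map_mul, map_inv, mul_inv_cancel_comm, h.1], ?_⟩
  rw [← h.2, eq_comm]
  exact S.tb.inv _ _ (ι.map_isConj (isConj_iff.2 ⟨g, rfl⟩))

theorem mem {w : List ℕ} {m : ℕ} {c : Z3} {t : Ty} (h1 : evG LZ w ^ m = c) (h2 : ty (ι (evG LK w) ^ m) = t) :
    lam (evG LK w ^ m) = c ∧ ty (ι (evG LK w ^ m)) = t := ⟨(S.lam_ev w m).trans h1, by rw [map_pow, h2]⟩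

theorem cent_dvd {k : K} {t : Ty} (h : ty (ι k) = t) (ht : t ≠ .sing) :
    Nat.card (Subgroup.centralizer ({k} : Set K)) ∣ t.cen := by
  rw [← h, ← S.tb.cent _ (h ▸ ht)]
  refine Subgroup.card_dvd_of_injective ((ι.comp (Subgroup.subtype _)).codRestrict _ fun x => ?_) ?_
  · have := Subgroup.mem_centralizer_singleton_iff.1 x.2
    rw [Subgroup.mem_centralizer_singleton_iff]
    show ι x * ι k = ι k * ι x
    rw [← map_mul, this, map_mul]
  · intro x y e
    exact Subtype.ext (S.inj (congrArg Subtype.val e))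

theorem classD {k : K} {c : Z3} {t : Ty} (h : lam k = c ∧ ty (ι k) = t) {n lb : ℕ} [DecidablePred (IsConj k)]
    (hn : Nat.card (Subgroup.centralizer ({k} : Set K)) ≤ n) (hlb : n * lb = 16547328) :
    lb ≤ #{y | IsConj k y} ∧ ({y | IsConj k y} : Finset K) ⊆ ({y | lam y = c ∧ ty (ι y) = t} : Finset K) := by
  classical
  refine ⟨?_, fun y hy => ?_⟩
  · have := lemmaD k n hn
    rw [S.hcard, ← hlb] at this
    exact Nat.le_of_mul_le_mul_left this (Nat.pos_of_ne_zero fun e => by rw [e] at hlb; omega)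
  · obtain ⟨g, rfl⟩ := isConj_iff.1 (mem_filter.1 hy).2
    exact mem_filter.2 ⟨mem_univ _, S.cinv c t g k h⟩

theorem nine {u : List ℕ} (ho : chkOrd u 9 = true) {c : Z3} (hc : evG LZ u ^ 1 = c) :
    612864 ≤ #{y | lam y = c ∧ ty (ι y) = .c9} := by
  classical
  have h := S.mem hc (t := .c9) (by rw [pow_one]; exact S.ty9 ho)
  obtain ⟨h1, h2⟩ := S.classD h (n := 27) (lb := 612864)
    (Nat.le_of_dvd (by decide) (S.cent_dvd h.2 (by decide))) rfl
  exact h1.trans (card_le_card h2)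

theorem nineteen [Finite T] : 1741824 ≤ #{y | lam y = 1 ∧ ty (ι y) = .c19} := by
  classical
  have h := S.mem (w := x19) (m := 1) (c := 1) (t := .c19) (by decide +kernel) (by rw [pow_one]; exact S.tyx)
  generalize evG LK x19 ^ 1 = x at h
  have h' : lam x⁻¹ = 1 ∧ ty (ι x⁻¹) = .c19 := ⟨by rw [map_inv, h.1, inv_one], by rw [map_inv, ty_inv S.tb, h.2]⟩
  obtain ⟨h1, h2⟩ := S.classD h (n := 19) (lb := 870912)
    (Nat.le_of_dvd (by decide) (S.cent_dvd h.2 (by decide))) rfl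
  obtain ⟨h3, h4⟩ := S.classD h' (n := 19) (lb := 870912)
    (Nat.le_of_dvd (by decide) (S.cent_dvd h'.2 (by decide))) rfl
  have hd : Disjoint ({y | IsConj x y} : Finset K) ({y | IsConj x⁻¹ y} : Finset K) := by
    rw [disjoint_filter]
    intro y _ a b
    have := ι.map_isConj (a.trans b.symm)
    rw [map_inv] at this
    exact S.h19 _ h.2 this
  have h5 := card_le_card (union_subset h2 h4)
  rw [card_union_of_disjoint hd] at h5
  omega

theorem inv_fix {s : K} (hs : orderOf s = 2) {p q : Fin 513} (hp : s • p = p) (hq : s • q = q) : p = q := by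
  by_contra h
  obtain ⟨g, hg0, hg1⟩ := S.htr p q h
  have h1 : MulAut.conj g⁻¹ s ∈ (MulAction.stabilizer K (0 : Fin 513) ⊓ MulAction.stabilizer K (1 : Fin 513) :
      Subgroup K) := by
    rw [Subgroup.mem_inf, MulAction.mem_stabilizer_iff, MulAction.mem_stabilizer_iff, MulAut.conj_apply, inv_inv,
      mul_smul, mul_smul, mul_smul, mul_smul, hg0, hg1, hp, hq, ← hg0, ← hg1, inv_smul_smul, inv_smul_smul]
    exact ⟨rfl, rfl⟩
  have h2 := Subgroup.orderOf_dvd_natCard _ h1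
  rw [S.hH, MulEquiv.orderOf_eq, hs] at h2
  exact absurd h2 (by decide)

theorem threeB : 68096 ≤ #{y | lam y = 1 ∧ ty (ι y) = .c3B} := by
  classical
  have h := S.mem (w := x9) (m := 3) (c := 1) (t := .c3B) (by decide +kernel)
    (by rw [ty3 S.tb (by rw [S.ty9 ox9]; decide), S.ty9 ox9]; rfl)
  have hf : nfix (Fin 513) (evG LK x9 ^ 3) = 0 := by rw [S.M.cnt_eq (by decide +kernel), fx9]
  generalize evG LK x9 ^ 3 = x at h hf
  have h1 : Nat.card (Subgroup.centralizer ({x} : Set K)) ∣ 29160 := S.cent_dvd h.2 (by decide)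
  have h2 := (Subgroup.centralizer ({x} : Set K)).card_subgroup_dvd_card
  rw [Nat.card_eq_fintype_card (α := K), S.hcard] at h2
  have h3 : Nat.card (Subgroup.centralizer ({x} : Set K)) ∣ 8 * 243 := Nat.dvd_gcd h1 h2
  have h4 : ¬ 2 ∣ Nat.card (Subgroup.centralizer ({x} : Set K)) := by
    intro hd
    obtain ⟨s, hs⟩ := exists_prime_orderOf_dvd_card' 2 hd
    have hs' : orderOf (s : K) = 2 := by rw [Subgroup.orderOf_coe, hs]
    obtain ⟨p, hp⟩ := Equiv.Perm.exists_fixed_point_of_prime (p := 2) (n := 1) (α := Fin 513)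
      (by rw [Fintype.card_fin]; decide) (σ := MulAction.toPermHom K (Fin 513) s)
      (by rw [← map_pow, pow_one, ← hs', pow_orderOf_eq_one, map_one])
    have hp' : (s : K) • p = p := hp
    have hc := Subgroup.mem_centralizer_singleton_iff.1 s.2
    have h5 : x • p = p := S.inv_fix hs' (by rw [← mul_smul, hc, mul_smul, hp']) hp'
    unfold nfix at hf
    rw [card_eq_zero, filter_eq_empty_iff] at hf
    exact hf (mem_univ p) h5
  have h5 : Nat.card (Subgroup.centralizer ({x} : Set K)) ∣ 243 :=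
    Nat.Coprime.dvd_of_dvd_mul_left (Nat.Coprime.pow_right 3 ((Nat.Prime.coprime_iff_not_dvd Nat.prime_two).2 h4).symm) h3
  obtain ⟨h6, h7⟩ := S.classD h (n := 243) (lb := 68096) (Nat.le_of_dvd (by decide) h5) rfl
  exact h6.trans (card_le_card h7)

theorem lowA {w : List ℕ} {m e k1 k2 lb n : ℕ} {items : List (ℕ × List ℕ)} {c : Z3} {t : Ty}
    (hr : chkReps [w] [m] 1 e k1 k2 = true) (h : chkC [w] [m] 1 e items 0 = true) (hl : items.length = n)
    (h1 : evG LZ w ^ m = c) (h2 : ty (ι (evG LK w) ^ m) = t) (hk : 0 < k1 * k2 ∧ lb * (k1 * k2) ≤ 262656 * n) :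
    lb ≤ #{k | lam k = c ∧ ty (ι k) = t} :=
  S.M.lower S.htr _ (S.cinv c t) (by decide) hr h (rep1 (S := fun k => lam k = c ∧ ty (ι k) = t) (S.mem h1 h2))
    hk.1 (hl ▸ hk.2)

theorem lowB {w w' : List ℕ} {m m' e k1 k2 lb n : ℕ} {items : List (ℕ × List ℕ)} {c : Z3} {t : Ty}
    (hr : chkReps [w, w'] [m, m'] 2 e k1 k2 = true) (h : chkC [w, w'] [m, m'] 2 e items 0 = true)
    (hl : items.length = n) (h1 : evG LZ w ^ m = c) (h2 : ty (ι (evG LK w) ^ m) = t) (h3 : evG LZ w' ^ m' = c)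
    (h4 : ty (ι (evG LK w') ^ m') = t) (hk : 0 < k1 * k2 ∧ lb * (k1 * k2) ≤ 262656 * n) :
    lb ≤ #{k | lam k = c ∧ ty (ι k) = t} :=
  S.M.lower S.htr _ (S.cinv c t) (by decide) hr h
    (rep2 (S := fun k => lam k = c ∧ ty (ι k) = t) (S.mem h1 h2) (S.mem h3 h4)) hk.1 (hl ▸ hk.2)

theorem low0 [Finite T] (t : Ty) : n0 t ≤ #{k | lam k = 1 ∧ ty (ι k) = t} := by
  have ha : ty (ι (evG LK [0])) ≠ .sing := by rw [S.tya]; decide
  have h1 : ty (ι (evG LK y1)) ≠ .sing := by rw [S.tyy1]; decide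
  have h2 : ty (ι (evG LK [2])) ≠ .sing := by rw [S.tyy2]; decide
  have h3 : ty (ι (evG LK y3)) ≠ .sing := by rw [S.tyy3]; decide
  cases t
  case c1 =>
    refine card_pos.2 ⟨1, mem_filter.2 ⟨mem_univ _, map_one _, ?_⟩⟩
    have := (ty_ord S.tb (g := ι 1) (n := 1) (by rw [map_one, orderOf_one]) (by decide)).2
    revert this; cases ty (ι 1) <;> decide
  case c2B => exact S.lowA r2B c2B l2B (by decide +kernel) S.tyu (by decide)
  case c4A => exact S.lowA r4A c4A l4A (by decide +kernel) (by rw [ty3 S.tb h1, S.tyy1]; rfl) (by decide)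
  case c4C =>
    exact S.lowB r4C c4C l4C (by decide +kernel) (by rw [ty3 S.tb h2, S.tyy2]; rfl) (by decide +kernel)
      (by rw [ty3 S.tb h3, S.tyy3]; rfl) (by decide)
  case c3A => exact S.lowB r3A c3A l3A (by decide +kernel) S.tyc (by decide +kernel) S.tyc2 (by decide)
  case c3B => exact S.threeB
  case c6B =>
    exact S.lowB r6B c6B l6B (by decide +kernel) (by rw [pow_one, S.tyv]) (by decide +kernel)
      (by rw [ty5 S.tb (by rw [S.tyv]; decide), S.tyv]) (by decide)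
  case c9 => exact S.nine ox9 (by decide +kernel)
  case c7 => exact S.lowA r7 c7 l7 (by decide +kernel) (by rw [ty3 S.tb ha, S.tya]; rfl) (by decide)
  case c21 =>
    exact S.lowB r21 c21 l21 (by decide +kernel) (by rw [pow_one, S.tya]) (by decide +kernel)
      (by rw [ty2 S.tb ha, S.tya]; rfl) (by decide)
  case c19 => exact S.nineteen
  all_goals exact Nat.zero_le _

theorem low1 (t : Ty) : n1 t ≤ #{k | lam k = Multiplicative.ofAdd 1 ∧ ty (ι k) = t} := by
  have h1 : ty (ι (evG LK y1)) ≠ .sing := by rw [S.tyy1]; decide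
  have h2 : ty (ι (evG LK [2])) ≠ .sing := by rw [S.tyy2]; decide
  have h3 : ty (ι (evG LK y3)) ≠ .sing := by rw [S.tyy3]; decide
  cases t
  case c3A => exact S.lowA r3Ac c3Ac l3Ac (by decide +kernel) (by rw [ty4 S.tb h1, S.tyy1]; rfl) (by decide)
  case c3B =>
    exact S.lowB r3Bc c3Bc l3Bc (by decide +kernel) (by rw [ty4 S.tb h2, S.tyy2]; rfl) (by decide +kernel)
      (by rw [ty4 S.tb h3, S.tyy3]; rfl) (by decide)
  case c6B => exact S.lowA r6Bc c6Bc l6Bc (by decide +kernel) (by rw [ty10 S.tb h1, S.tyy1]; rfl) (by decide)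
  case c6C =>
    exact S.lowB r6Cc c6Cc l6Cc (by decide +kernel) (by rw [ty10 S.tb h2, S.tyy2]; rfl) (by decide +kernel)
      (by rw [ty10 S.tb h3, S.tyy3]; rfl) (by decide)
  case c9 => exact S.nine ox9c (by decide +kernel)
  case c12B => exact S.lowA r12Bc c12Bc l12Bc (by decide +kernel) (by rw [pow_one, S.tyy1]) (by decide)
  case c12C =>
    exact S.lowB r12Cc c12Cc l12Cc (by decide +kernel) (by rw [pow_one, S.tyy2]) (by decide +kernel)
      (by rw [pow_one, S.tyy3]) (by decide)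
  all_goals exact Nat.zero_le _

theorem main [Finite T] (haut : ∀ (τ : MulAut T) g, ty (τ g) = ty g) (τ : MulAut T) :
    ∃ k : K, lam k ≠ 1 ∧ τ (ι k) ∈ ι.range :=
  counting S.tb haut S.h19 ι S.inj lam
    (exact_counts (fun k => ty (ι k)) lam (fun k => by rw [map_inv, ty_inv S.tb]) S.card S.low0 S.low1) τ

end Setup

end Cfsg.Agent.SP.PosB.HN
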