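import Cfsg.Agent.H651.HNF.Table

/-! # HN: the counting argument -/

set_option autoImplicit false

namespace Cfsg.Agent.SP.PosB.HN

open Finset Cfsg.Agent.H651.HNF

/-- the cyclic group of order three -/
abbrev Z3 := Multiplicative (ZMod 3)

section LemmaC
variable {K : Type*} [Group K] [Fintype K] {Ω : Type*} [Fintype Ω] [DecidableEq Ω] [MulAction K Ω]

/-- number of fixed points -/
def nfix (Ω : Type*) [Fintype Ω] [DecidableEq Ω] [MulAction K Ω] (g : K) : ℕ := #{p : Ω | g • p = p}

omit [Fintype K] in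
theorem nfix_conj (g r : K) : nfix Ω (g * r * g⁻¹) = nfix Ω r := by
  unfold nfix
  symm
  refine card_bij (fun p _ => g • p) ?_ ?_ ?_
  · intro p hp
    simp only [mem_filter, mem_univ, true_and] at hp ⊢
    rw [mul_smul, mul_smul, inv_smul_smul, hp]
  · intro p _ q _ h
    exact smul_left_cancel g h
  · intro q hq
    simp only [mem_filter, mem_univ, true_and] at hq ⊢
    refine ⟨g⁻¹ • q, ?_, smul_inv_smul _ _⟩
    rw [mul_smul, mul_smul] at hq
    rw [eq_inv_smul_iff, hq]

/-- counting with pairs of fixed points -/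
theorem lemmaC [DecidableEq K] (x0 x1 : Ω) (htr : ∀ p q : Ω, p ≠ q → ∃ g : K, g • x0 = p ∧ g • x1 = q)
    (S : K → Prop) [DecidablePred S] (e k1 k2 : ℕ) (L : Finset K)
    (hL : ∀ r ∈ L, r • x0 = x0 ∧ r ^ e • x1 = x1 ∧ (∀ g, S (g * r * g⁻¹)) ∧ nfix Ω r ≤ k1 ∧
      nfix Ω (r ^ e) ≤ k2 + 1) :
    (Fintype.card Ω * Fintype.card Ω - Fintype.card Ω) * #L ≤ #{s | S s} * (k1 * k2) := by
  classical
  let S' : Finset K := {s | S s ∧ nfix Ω s ≤ k1 ∧ nfix Ω (s ^ e) ≤ k2 + 1}
  have h1 := card_mul_le_card_mul (s := (univ : Finset Ω).offDiag) (t := S')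
    (fun pq s => s • pq.1 = pq.1 ∧ s ^ e • pq.2 = pq.2) (m := #L) (n := k1 * k2) ?_ ?_
  · rw [offDiag_card, card_univ] at h1
    refine h1.trans (Nat.mul_le_mul_right _ (card_le_card ?_))
    intro s hs
    simp only [S', mem_filter, mem_univ, true_and] at hs ⊢
    exact hs.1
  · rintro ⟨p, q⟩ hpq
    obtain ⟨g, hg0, hg1⟩ := htr p q (mem_offDiag.1 hpq).2.2
    refine card_le_card_of_injOn (fun r => g * r * g⁻¹) ?_ ?_
    · intro r hr
      obtain ⟨a1, a2, a3, a4, a5⟩ := hL r hr
      simp only [coe_bipartiteAbove, Set.mem_ofPred_eq, S', mem_filter, mem_univ, true_and, conj_pow, nfix_conj]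
      refine ⟨⟨a3 g, a4, a5⟩, ?_, ?_⟩
      · rw [← hg0, mul_smul, mul_smul, inv_smul_smul, a1]
      · rw [← hg1, mul_smul, mul_smul, inv_smul_smul, a2]
    · intro r _ r' _ h
      simpa using h
  · intro s hs
    simp only [S', mem_filter, mem_univ, true_and] at hs
    obtain ⟨-, a4, a5⟩ := hs
    have := card_le_mul_card_image_of_maps_to (f := Prod.fst)
      (s := (univ : Finset Ω).offDiag.bipartiteBelow (fun pq s => s • pq.1 = pq.1 ∧ s ^ e • pq.2 = pq.2) s)
      (t := ({p : Ω | s • p = p} : Finset Ω)) ?_ k2 ?_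
    · exact this.trans (by rw [mul_comm]; exact Nat.mul_le_mul_right _ a4)
    · intro pq h
      simp only [mem_bipartiteBelow] at h
      simp only [mem_filter, mem_univ, true_and]
      exact h.2.1
    · intro p hp
      simp only [mem_filter, mem_univ, true_and] at hp
      have hp' : p ∈ ({q : Ω | s ^ e • q = q} : Finset Ω) := by
        simp only [mem_filter, mem_univ, true_and]
        exact MulAction.mem_stabilizer_iff.1 (pow_mem (MulAction.mem_stabilizer_iff.2 hp) e)
      have h2 := card_erase_of_mem hp'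
      refine le_trans (card_le_card_of_injOn Prod.snd (t := ({q : Ω | s ^ e • q = q} : Finset Ω).erase p) ?_ ?_) ?_
      · rintro ⟨a, b⟩ h
        simp only [coe_filter, mem_bipartiteBelow, mem_offDiag, mem_univ, true_and, Set.mem_ofPred_eq] at h
        simp only [coe_erase, coe_filter, mem_univ, true_and, Set.mem_sdiff, Set.mem_ofPred_eq, Set.mem_singleton_iff]
        exact ⟨h.1.2.2, fun e => h.1.1 (h.2.trans e.symm)⟩
      · rintro ⟨a, b⟩ h ⟨a', b'⟩ h' e
        simp only [coe_filter, Set.mem_ofPred_eq] at h h' e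
        exact Prod.ext (h.2.trans h'.2.symm) e
      · unfold nfix at a5
        omega

end LemmaC

section Conj
variable {K : Type*} [Group K] [Fintype K] [DecidableEq K]

theorem card_conj_fiber (x y : K) (h : IsConj x y) :
    #{t : K | t * x * t⁻¹ = y} = Nat.card (Subgroup.centralizer ({x} : Set K)) := by
  classical
  obtain ⟨c, hc⟩ := isConj_iff.1 h
  rw [Nat.card_eq_fintype_card, Fintype.card_subtype]
  symm
  refine card_bij (fun p _ => c * p) ?_ ?_ ?_
  · intro p hp
    simp only [mem_filter, mem_univ, true_and, Subgroup.mem_centralizer_singleton_iff] at hp ⊢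
    rw [← hc, mul_assoc c p x, hp]; group
  · intro p _ q _ h
    exact mul_left_cancel h
  · intro q hq
    simp only [mem_filter, mem_univ, true_and, Subgroup.mem_centralizer_singleton_iff] at hq ⊢
    refine ⟨c⁻¹ * q, ?_, by group⟩
    have : q * x = c * x * c⁻¹ * q := by rw [hc, ← hq]; group
    rw [mul_assoc, this]; group

/-- the size of a class from a bound for the centraliser -/
theorem lemmaD (x : K) (c : ℕ) (hc : Nat.card (Subgroup.centralizer ({x} : Set K)) ≤ c) [DecidablePred (IsConj x)] :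
    Fintype.card K ≤ c * #{y | IsConj x y} := by
  rw [← card_univ]
  refine card_le_mul_card_image_of_maps_to (f := fun t => t * x * t⁻¹) ?_ c ?_
  · intro t _
    simp only [mem_filter, mem_univ, true_and]
    exact isConj_iff.2 ⟨t, rfl⟩
  · intro y hy
    simp only [mem_filter, mem_univ, true_and] at hy
    rw [card_conj_fiber x y hy]
    exact hc

omit [DecidableEq K] in
theorem fiber_le (D : Subgroup K) [DecidablePred (· ∈ D)] (lam : K →* Z3) (c : Z3) :
    #{k | lam k = c ∧ k ∈ D} ≤ #{k | lam k = 1 ∧ k ∈ D} := by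
  rcases ({k | lam k = c ∧ k ∈ D} : Finset K).eq_empty_or_nonempty with h | ⟨d, hd⟩
  · rw [h]; exact Nat.zero_le _
  simp only [mem_filter, mem_univ, true_and] at hd
  refine card_le_card_of_injOn (fun k => d⁻¹ * k) ?_ ?_
  · intro k hk
    simp only [coe_filter, mem_univ, true_and, Set.mem_ofPred_eq] at hk ⊢
    exact ⟨by rw [map_mul, map_inv, hd.1, hk.1, inv_mul_cancel], D.mul_mem (D.inv_mem hd.2) hk.2⟩
  · intro k _ k' _ h
    exact mul_left_cancel h

end Conj

/-- the numbers of elements of `U₃(8)` -/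
def n0 : Ty → ℕ
  | .c1 => 1 | .c2B => 3591 | .c4A => 86184 | .c4C => 172368 | .c3A => 7296 | .c3B => 68096 | .c6B => 459648
  | .c9 => 612864 | .c7 => 787968 | .c21 => 1575936 | .c19 => 1741824 | _ => 0

/-- the numbers of elements of the other cosets -/
def n1 : Ty → ℕ
  | .c3A => 25536 | .c3B => 51072 | .c6B => 229824 | .c6C => 459648 | .c9 => 612864 | .c12B => 1378944
  | .c12C => 2757888 | _ => 0

/-- the numbers of elements of `U₃(8):3` -/
def nA (t : Ty) : ℕ := n0 t + n1 t + n1 t

theorem sum_nA : ∑ t, (n0 t + n1 t + n1 t) = 16547328 := by decide +kernel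

theorem key_num : ∑ t, n0 t * (t.cen * if t = .c19 then nA t else 2 * nA t) =
    ∑ t, n1 t * (t.cen * nA t) + ∑ t, n1 t * (t.cen * nA t) := by decide +kernel

theorem z3_cases (c : Z3) : c = 1 ∨ c = Multiplicative.ofAdd 1 ∨ c = Multiplicative.ofAdd 2 := by
  revert c; decide

theorem sum_ty {K : Type*} [Fintype K] (P : K → Prop) [DecidablePred P] (f : K → Ty) (F : Ty → ℕ) :
    ∑ k with P k, F (f k) = ∑ t, #{k | P k ∧ f k = t} * F t := by
  rw [← sum_fiberwise (g := f)]
  refine sum_congr rfl fun t _ => ?_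
  rw [filter_filter, card_eq_sum_ones, sum_mul, one_mul]
  refine sum_congr rfl fun k hk => ?_
  simp only [mem_filter] at hk
  rw [hk.2.2]

theorem card_split {K : Type*} [Group K] [Fintype K] (lam : K →* Z3) (P : K → Prop) [DecidablePred P] :
    #{k | P k} = #{k | lam k = 1 ∧ P k} + #{k | lam k = Multiplicative.ofAdd 1 ∧ P k} +
      #{k | lam k = Multiplicative.ofAdd 2 ∧ P k} := by
  simp only [card_filter]
  rw [← sum_add_distrib, ← sum_add_distrib]
  refine sum_congr rfl fun k _ => ?_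
  by_cases h : P k
  · rcases z3_cases (lam k) with e | e | e <;> rw [e] <;> simp only [h, and_true] <;> decide
  · simp [h]

section Main
variable {T : Type} [Group T] [Finite T] {ty : T → Ty} {K : Type*} [Group K] [Fintype K]

/-- lower bounds give the exact numbers -/
theorem exact_counts (f : K → Ty) (lam : K →* Z3) (hf : ∀ k, f k⁻¹ = f k) (hK : Fintype.card K ≤ 16547328)
    (h0 : ∀ t, n0 t ≤ #{k | lam k = 1 ∧ f k = t})
    (h1 : ∀ t, n1 t ≤ #{k | lam k = Multiplicative.ofAdd 1 ∧ f k = t}) (t : Ty) :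
    #{k | lam k = 1 ∧ f k = t} = n0 t ∧ #{k | lam k = Multiplicative.ofAdd 1 ∧ f k = t} = n1 t ∧
      #{k | lam k = Multiplicative.ofAdd 2 ∧ f k = t} = n1 t := by
  classical
  have h2 : ∀ t, n1 t ≤ #{k | lam k = Multiplicative.ofAdd 2 ∧ f k = t} := by
    intro t
    refine (h1 t).trans (card_le_card_of_injOn (fun k => k⁻¹) ?_ ?_)
    · intro k hk
      simp only [coe_filter, mem_univ, true_and, Set.mem_ofPred_eq] at hk ⊢
      exact ⟨by rw [map_inv, hk.1]; decide, by rw [hf, hk.2]⟩
    · intro k _ k' _ h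
      exact inv_injective h
  have h3 : ∑ t, (#{k | lam k = 1 ∧ f k = t} + #{k | lam k = Multiplicative.ofAdd 1 ∧ f k = t} +
      #{k | lam k = Multiplicative.ofAdd 2 ∧ f k = t}) = Fintype.card K := by
    rw [← card_univ, card_eq_sum_card_fiberwise (f := f) (t := univ) (fun _ _ => mem_univ _)]
    exact sum_congr rfl fun t _ => (card_split lam _).symm
  have h4 : ∀ t ∈ (univ : Finset Ty), n0 t + n1 t + n1 t ≤ #{k | lam k = 1 ∧ f k = t} +
      #{k | lam k = Multiplicative.ofAdd 1 ∧ f k = t} + #{k | lam k = Multiplicative.ofAdd 2 ∧ f k = t} :=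
    fun t _ => add_le_add (add_le_add (h0 t) (h1 t)) (h2 t)
  have h5 := (sum_eq_sum_iff_of_le h4).1 (le_antisymm (sum_le_sum h4) (by rw [h3, sum_nA]; exact hK)) t (mem_univ _)
  have := h0 t
  have := h1 t
  have := h2 t
  omega

/-- **the counting argument** -/
theorem counting (Tb : Table T ty) (haut : ∀ (τ : MulAut T) g, ty (τ g) = ty g)
    (h19 : ∀ g, ty g = .c19 → ¬ IsConj g g⁻¹) (ι : K →* T) (hι : Function.Injective ι) (lam : K →* Z3)
    (hc : ∀ t, #{k | lam k = 1 ∧ ty (ι k) = t} = n0 t ∧ #{k | lam k = Multiplicative.ofAdd 1 ∧ ty (ι k) = t} = n1 t ∧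
      #{k | lam k = Multiplicative.ofAdd 2 ∧ ty (ι k) = t} = n1 t) (τ : MulAut T) :
    ∃ k : K, lam k ≠ 1 ∧ τ (ι k) ∈ ι.range := by
  classical
  have := Fintype.ofFinite T
  let D : T → Subgroup K := fun t => ι.range.comap (τ.toMonoidHom.comp ((MulAut.conj t).toMonoidHom.comp ι))
  have hD : ∀ t k, k ∈ D t ↔ ∃ k', ι k' = τ (t * ι k * t⁻¹) := fun t k => Iff.rfl
  let q : K → ℕ := fun k => #{k' : K | IsConj (ι k) (τ.symm (ι k'))}
  have hA : ∀ t, #{k | ty (ι k) = t} = nA t := by
    intro t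
    rw [card_split lam, (hc t).1, (hc t).2.1, (hc t).2.2, nA]
  have hsing : ∀ k, ty (ι k) ≠ .sing := by
    intro k h
    have h1 := hA .sing
    rw [show nA .sing = 0 from rfl, card_eq_zero, filter_eq_empty_iff] at h1
    exact h1 (mem_univ k) h
  have hm : ∀ k, #{t | k ∈ D t} = (ty (ι k)).cen * q k := by
    intro k
    have e1 : ({t | k ∈ D t} : Finset T) = ({k' : K | IsConj (ι k) (τ.symm (ι k'))} : Finset K).biUnion
        fun k' => {t | t * ι k * t⁻¹ = τ.symm (ι k')} := by
      ext t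
      simp only [mem_filter, mem_univ, true_and, mem_biUnion, hD]
      constructor
      · rintro ⟨k', h⟩
        have : t * ι k * t⁻¹ = τ.symm (ι k') := by rw [h, MulEquiv.symm_apply_apply]
        exact ⟨k', isConj_iff.2 ⟨t, this⟩, this⟩
      · rintro ⟨k', -, h⟩
        exact ⟨k', by rw [h, MulEquiv.apply_symm_apply]⟩
    rw [e1, card_biUnion, mul_comm, ← smul_eq_mul, ← sum_const]
    · refine sum_congr rfl fun k' hk' => ?_
      rw [card_conj_fiber _ _ (mem_filter.1 hk').2, Tb.cent _ (hsing k)]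
    · intro a _ b _ hab
      rw [Function.onFun, disjoint_filter]
      intro t _ h1 h2
      exact hab (hι (τ.symm.injective (h1.symm.trans h2)))
  have hq : ∀ k, ty (ι k) ≠ .c19 → q k = nA (ty (ι k)) := by
    intro k hk
    rw [← hA]
    refine congrArg card (filter_congr fun k' _ => ⟨fun h => ?_, fun h => ?_⟩)
    · rw [Tb.inv _ _ h, haut]
    · exact Tb.conj _ _ (by rw [haut, h]) (hsing k) hk
  have hq19 : ∀ k, ty (ι k) = .c19 → 2 * q k ≤ nA .c19 := by
    intro k hk
    rw [← hA]
    let U : Finset K := {k' : K | IsConj (ι k) (τ.symm (ι k'))}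
    have hd : Disjoint U (U.image (·⁻¹)) := by
      rw [disjoint_left]
      intro a ha ha'
      obtain ⟨b, hb, rfl⟩ := mem_image.1 ha'
      have e1 := (mem_filter.1 ha).2
      have e2 := (mem_filter.1 hb).2
      rw [map_inv, map_inv] at e1
      exact h19 _ ((Tb.inv _ _ e2).symm.trans hk) (e2.symm.trans e1)
    have h1 := card_union_of_disjoint hd
    rw [card_image_of_injective _ inv_injective] at h1
    rw [two_mul, ← h1]
    refine card_le_card fun a ha => ?_
    simp only [mem_filter, mem_univ, true_and]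
    rcases mem_union.1 ha with h | h
    · rw [← haut τ.symm, ← Tb.inv _ _ (mem_filter.1 h).2, hk]
    · obtain ⟨b, hb, rfl⟩ := mem_image.1 h
      have e : ty (ι b) = .c19 := by rw [← haut τ.symm, ← Tb.inv _ _ (mem_filter.1 hb).2, hk]
      have ho : orderOf (ι b) = 19 := by rw [Tb.ord _ (hsing b), e]; rfl
      have : ι b⁻¹ = ι b ^ 18 := by
        rw [map_inv, eq_comm, eq_inv_iff_mul_eq_one, ← pow_succ]
        have := pow_orderOf_eq_one (ι b)
        rwa [ho] at this
      rw [this, Tb.real _ (hsing b) _ (by rw [ho]; decide), e]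
  have hsw : ∀ c : Z3, ∑ t, #{k | lam k = c ∧ k ∈ D t} = ∑ k with lam k = c, (ty (ι k)).cen * q k := by
    intro c
    simp only [← hm, card_filter]
    rw [sum_comm, sum_filter]
    refine sum_congr rfl fun k _ => ?_
    by_cases h : lam k = c <;> simp [h]
  have hcos : ∀ c : Z3, (∀ t, #{k | lam k = c ∧ ty (ι k) = t} = n1 t) →
      ∑ t, #{k | lam k = c ∧ k ∈ D t} = ∑ t, n1 t * (t.cen * nA t) := by
    intro c h
    rw [hsw]
    simp only [← h]
    rw [← sum_ty (fun k => lam k = c) (fun k => ty (ι k)) (fun t => t.cen * nA t)]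
    refine sum_congr rfl fun k hk => ?_
    rw [hq]
    intro h19'
    have h1 := h .c19
    rw [show n1 .c19 = 0 from rfl, card_eq_zero, filter_eq_empty_iff] at h1
    exact h1 (mem_univ k) ⟨(mem_filter.1 hk).2, h19'⟩
  have hB : ∑ t, 2 * #{k | lam k = 1 ∧ k ∈ D t} ≤
      ∑ t, n0 t * (t.cen * if t = .c19 then nA t else 2 * nA t) := by
    rw [← mul_sum, hsw, mul_sum]
    simp only [← fun t => (hc t).1]
    rw [← sum_ty (fun k => lam k = 1) (fun k => ty (ι k)) (fun t => t.cen * if t = .c19 then nA t else 2 * nA t)]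
    refine sum_le_sum fun k _ => ?_
    rw [mul_left_comm]
    refine Nat.mul_le_mul_left _ ?_
    split_ifs with h
    · rw [h]; exact hq19 k h
    · rw [hq k h]
  have hle : ∀ t ∈ (univ : Finset T), #{k | lam k = Multiplicative.ofAdd 1 ∧ k ∈ D t} +
      #{k | lam k = Multiplicative.ofAdd 2 ∧ k ∈ D t} ≤ 2 * #{k | lam k = 1 ∧ k ∈ D t} := fun t _ => by
    rw [two_mul]; exact add_le_add (fiber_le _ _ _) (fiber_le _ _ _)
  have heq := (sum_eq_sum_iff_of_le hle).1 (le_antisymm (sum_le_sum hle) (by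
    rw [sum_add_distrib, hcos _ fun t => (hc t).2.1, hcos _ fun t => (hc t).2.2, ← key_num]; exact hB)) 1 (mem_univ _)
  have hpos : 0 < #{k | lam k = 1 ∧ k ∈ D 1} :=
    card_pos.2 ⟨1, by simp only [mem_filter, mem_univ, true_and]; exact ⟨map_one _, (D 1).one_mem⟩⟩
  by_contra hcon
  push Not at hcon
  have hz : ∀ c : Z3, c ≠ 1 → #{k | lam k = c ∧ k ∈ D 1} = 0 := by
    intro c hc1
    rw [card_eq_zero, filter_eq_empty_iff]
    rintro k - ⟨h1, h2⟩
    obtain ⟨k', hk'⟩ := (hD 1 k).1 h2
    rw [one_mul, inv_one, mul_one] at hk'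
    exact hcon k (h1 ▸ hc1) ⟨k', hk'⟩
  rw [hz _ (by decide), hz _ (by decide)] at heq
  omega

end Main

end Cfsg.Agent.SP.PosB.HN
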