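import Cfsg.Agent.SP.Pos.HN.CosData
import Cfsg.Agent.SP.Pos.HN.Cnt

/-! # HN: words acting on 513 points -/

set_option autoImplicit false

namespace Cfsg.Agent.SP.PosB.HN

open Finset
open Cfsg.Agent.Lib.PackMat (force force_eq)
open Cfsg.Agent.Lib.PackMatGroup (evG evG_nil evG_cons evG_append get okW okW_cons)
open Cfsg.Agent.Lib.PackArr (fld allLt allLt_spec sumR sumR_eq)
open Cert (getW)

/-- tables of the letters -/
def TP : List ℕ := [tG0, tG1, tG2, tG3, tG4]
/-- tables of the inverses -/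
def TI : List ℕ := [tG1, tG0, tG3, tG2, tG4]

/-- action of a word -/
noncomputable def apW (w : List ℕ) (i : ℕ) : ℕ := List.rec i (fun x _ ih => fld 11 (get TP x) ih) w
/-- action of the inverse of a word -/
noncomputable def apI (w : List ℕ) : ℕ → ℕ :=
  List.rec (motive := fun _ => ℕ → ℕ) (fun i => i) (fun x _ ih i => ih (fld 11 (get TI x) i)) w
/-- action of a power of a word -/
noncomputable def apP (w : List ℕ) (k i : ℕ) : ℕ := Nat.rec i (fun _ ih => apW w ih) k

/-- number of fixed points -/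
noncomputable def cnt (w : List ℕ) (k : ℕ) : ℕ :=
  sumR 10 0 fun i => bif Nat.blt i 513 then bif Nat.beq (apP w k i) i then 1 else 0 else 0

/-- word along a tree -/
noncomputable def wd (par lt root f : ℕ) : ℕ → List ℕ :=
  Nat.rec (motive := fun _ => ℕ → List ℕ) (fun _ => [])
    (fun _ ih i => force i fun i => bif Nat.beq i root then [] else fld 3 lt i :: ih (fld 11 par i)) f

/-- transitivity -/
noncomputable def chkT1 (par lt : ℕ) : Bool :=
  allLt 10 513 fun i => bif okW 5 (wd par lt 0 8 i) then Nat.beq (apW (wd par lt 0 8 i) 0) i else false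

/-- transitivity of the stabiliser -/
noncomputable def chkT2 (par lt : ℕ) : Bool :=
  allLt 10 513 fun i => bif Nat.beq i 0 then true else bif okW 5 (wd par lt 1 8 i) then
    bif Nat.beq (apW (wd par lt 1 8 i) 0) 0 then Nat.beq (apW (wd par lt 1 8 i) 1) i else false else false

/-- equal images of the base -/
noncomputable def chkEq (u : List ℕ) (k : ℕ) (v : List ℕ) (l : ℕ) : Bool :=
  bif okW 5 u then bif okW 5 v then bif Nat.beq (apP u k 0) (apP v l 0) then bif Nat.beq (apP u k 1) (apP v l 1) then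
    Nat.beq (apP u k 6) (apP v l 6) else false else false else false else false

/-- the order -/
noncomputable def chkOrd (u : List ℕ) (n : ℕ) : Bool :=
  bif chkEq u n [] 0 then allLt 5 n fun m => bif Nat.beq m 0 then true else bif chkEq u m [] 0 then false else true
  else false

/-- a list of conjugates: items `(index of the representative, conjugating word)` -/
noncomputable def chkC (rw : List (List ℕ)) (rm : List ℕ) (nr e : ℕ) (items : List (ℕ × List ℕ)) : ℕ → Bool :=
  List.rec (motive := fun _ => ℕ → Bool) (fun _ => true)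
    (fun it _ ih prev => force (get rm it.1) fun m => force (apI it.2 0) fun u0 => force (apI it.2 1) fun u1 =>
      force (Nat.succ (Nat.add (Nat.mul (apW it.2 (apP (getW rw it.1) m u1)) 513)
        (apW it.2 (apP (getW rw it.1) m (apI it.2 6))))) fun s =>
      bif okW 5 it.2 then bif Nat.blt it.1 nr then bif Nat.beq (apP (getW rw it.1) m u0) u0 then
        bif Nat.beq (apP (getW rw it.1) (Nat.mul m e) u1) u1 then bif Nat.blt prev s then ih s
        else false else false else false else false else false) items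

/-- the representatives -/
noncomputable def chkReps (rw : List (List ℕ)) (rm : List ℕ) (nr e k1 k2 : ℕ) : Bool :=
  allLt 6 nr fun i => bif okW 5 (getW rw i) then bif Nat.ble (cnt (getW rw i) (get rm i)) k1 then
    Nat.ble (cnt (getW rw i) (Nat.mul (get rm i) e)) (Nat.succ k2) else false else false

/-- words in range -/
noncomputable def chkOk (rw : List (List ℕ)) (nr : ℕ) : Bool := allLt 6 nr fun i => okW 5 (getW rw i)

/-- relators -/
noncomputable def chkPR (L : List (List ℕ)) : Bool :=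
  List.rec true (fun w _ ih => bif okW 5 w then bif allLt 10 513 (fun i => Nat.beq (apW w i) i) then ih else false
    else false) L

/-- The letters act according to the tables. -/
structure Model (K : Type) [Group K] [MulAction K (Fin 513)] (LK : List K) : Prop where
  act : ∀ x < 5, ∀ i : Fin 513, ((LK.getD x 1 • i : Fin 513) : ℕ) = fld 11 (get TP x) i
  actI : ∀ x < 5, ∀ i : Fin 513, (((LK.getD x 1)⁻¹ • i : Fin 513) : ℕ) = fld 11 (get TI x) i

/-- signature -/
def sg {K : Type} [Group K] [MulAction K (Fin 513)] (k : K) : ℕ :=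
  ((k • (1 : Fin 513) : Fin 513) : ℕ) * 513 + ((k • (6 : Fin 513) : Fin 513) : ℕ) + 1

namespace Model

variable {K : Type} [Group K] [MulAction K (Fin 513)] {LK : List K} (M : Model K LK)
include M

theorem apW_eq {w : List ℕ} (hw : okW 5 w = true) (i : Fin 513) : ((evG LK w • i : Fin 513) : ℕ) = apW w i := by
  induction w with
  | nil => rw [evG_nil, one_smul]; rfl
  | cons x w ih =>
    obtain ⟨h1, h2⟩ := okW_cons hw
    rw [evG_cons, mul_smul, M.act x h1, ih h2]; rfl

theorem apI_eq {w : List ℕ} (hw : okW 5 w = true) (i : Fin 513) : (((evG LK w)⁻¹ • i : Fin 513) : ℕ) = apI w i := by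
  induction w generalizing i with
  | nil => rw [evG_nil, inv_one, one_smul]; rfl
  | cons x w ih =>
    obtain ⟨h1, h2⟩ := okW_cons hw
    rw [evG_cons, mul_inv_rev, mul_smul, ih h2, M.actI x h1]; rfl

theorem apP_eq {w : List ℕ} (hw : okW 5 w = true) (k : ℕ) (i : Fin 513) :
    (((evG LK w) ^ k • i : Fin 513) : ℕ) = apP w k i := by
  induction k with
  | zero => rw [pow_zero, one_smul]; rfl
  | succ k ih => rw [pow_succ', mul_smul, M.apW_eq hw, ih]; rfl

theorem cnt_eq {w : List ℕ} (hw : okW 5 w = true) (k : ℕ) : nfix (Fin 513) ((evG LK w) ^ k) = cnt w k := by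
  unfold cnt nfix
  rw [sumR_eq, card_filter]
  have e1 : ∀ i : Fin 513, (if (evG LK w) ^ k • i = i then 1 else 0) =
      (bif Nat.blt (0 + i) 513 then bif Nat.beq (apP w k (0 + i)) (0 + i) then 1 else 0 else 0) := by
    intro i
    simp only [zero_add, Bool.cond_eq_ite, Nat.blt_eq, Nat.beq_eq, i.2, if_true, ← M.apP_eq hw, Fin.val_inj]
  rw [sum_congr rfl fun i _ => e1 i, Fin.sum_univ_eq_sum_range
    (fun i => bif Nat.blt (0 + i) 513 then bif Nat.beq (apP w k (0 + i)) (0 + i) then 1 else 0 else 0)]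
  refine sum_subset (range_subset_range.2 (by decide)) fun i _ hi => ?_
  rw [mem_range] at hi
  simp only [zero_add, Bool.cond_eq_ite, Nat.blt_eq, if_neg hi]

theorem trans_of {p1 l1 p2 l2 : ℕ} (h1 : chkT1 p1 l1 = true) (h2 : chkT2 p2 l2 = true) (p q : Fin 513) (hpq : p ≠ q) :
    ∃ g : K, g • (0 : Fin 513) = p ∧ g • (1 : Fin 513) = q := by
  have a1 := allLt_spec h1 (by decide) p p.2
  simp only [Bool.cond_eq_ite] at a1
  split_ifs at a1 with b1
  have c1 : evG LK (wd p1 l1 0 8 p) • (0 : Fin 513) = p :=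
    Fin.ext ((M.apW_eq b1 0).trans (Nat.eq_of_beq_eq_true a1))
  generalize evG LK (wd p1 l1 0 8 p) = g at c1
  have a2 := allLt_spec h2 (by decide) (g⁻¹ • q : Fin 513) (g⁻¹ • q : Fin 513).2
  simp only [Bool.cond_eq_ite, Nat.beq_eq] at a2
  split_ifs at a2 with b2 b3 b4
  · exact absurd (by rw [← c1, ← (Fin.ext b2 : g⁻¹ • q = 0), smul_inv_smul]) hpq
  refine ⟨g * evG LK (wd p2 l2 1 8 (g⁻¹ • q : Fin 513)), ?_, ?_⟩
  · rw [mul_smul, (Fin.ext ((M.apW_eq b3 0).trans b4) : _ = (0 : Fin 513)), c1]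
  · rw [mul_smul, (Fin.ext ((M.apW_eq b3 1).trans (Nat.eq_of_beq_eq_true a2)) : _ = g⁻¹ • q), smul_inv_smul]

theorem chkEq_iff {u v : List ℕ} (hu : okW 5 u = true) (hv : okW 5 v = true) (k l : ℕ) : chkEq u k v l = true ↔
    evG LK u ^ k • (0 : Fin 513) = evG LK v ^ l • (0 : Fin 513) ∧
    evG LK u ^ k • (1 : Fin 513) = evG LK v ^ l • (1 : Fin 513) ∧
    evG LK u ^ k • (6 : Fin 513) = evG LK v ^ l • (6 : Fin 513) := by
  unfold chkEq
  simp only [hu, hv, Fin.ext_iff, M.apP_eq hu, M.apP_eq hv, Bool.cond_eq_ite, Nat.beq_eq]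
  show (if apP u k 0 = apP v l 0 then if apP u k 1 = apP v l 1 then Nat.beq (apP u k 6) (apP v l 6) else false
    else false) = true ↔ apP u k 0 = apP v l 0 ∧ apP u k 1 = apP v l 1 ∧ apP u k 6 = apP v l 6
  split_ifs with h1 h2 <;> simp [*]

omit M in
theorem chkEq_ok {u v : List ℕ} {k l : ℕ} (h : chkEq u k v l = true) : okW 5 u = true ∧ okW 5 v = true := by
  unfold chkEq at h
  simp only [Bool.cond_eq_ite] at h
  split_ifs at h with h1 h2
  exact ⟨h1, h2⟩

/-- the element given by an item -/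
noncomputable def el (LK : List K) (rw : List (List ℕ)) (rm : List ℕ) (it : ℕ × List ℕ) : K :=
  evG LK it.2 * evG LK (getW rw it.1) ^ get rm it.1 * (evG LK it.2)⁻¹

theorem chkC_spec {rw : List (List ℕ)} {rm : List ℕ} {nr e : ℕ} (hok : ∀ i < nr, okW 5 (getW rw i) = true)
    {items : List (ℕ × List ℕ)} {prev : ℕ} (h : chkC rw rm nr e items prev = true) :
    (∀ it ∈ items, it.1 < nr ∧ el LK rw rm it • (0 : Fin 513) = 0 ∧ el LK rw rm it ^ e • (1 : Fin 513) = 1 ∧
      prev < sg (el LK rw rm it)) ∧ (items.map fun it => sg (el LK rw rm it)).Nodup := by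
  induction items generalizing prev with
  | nil => exact ⟨fun _ h => absurd h List.not_mem_nil, List.nodup_nil⟩
  | cons it items ih =>
    have h' : (bif okW 5 it.2 then bif Nat.blt it.1 nr then
        bif Nat.beq (apP (getW rw it.1) (get rm it.1) (apI it.2 0)) (apI it.2 0) then
        bif Nat.beq (apP (getW rw it.1) (get rm it.1 * e) (apI it.2 1)) (apI it.2 1) then
        bif Nat.blt prev (apW it.2 (apP (getW rw it.1) (get rm it.1) (apI it.2 1)) * 513 +
          apW it.2 (apP (getW rw it.1) (get rm it.1) (apI it.2 6)) + 1) then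
        chkC rw rm nr e items (apW it.2 (apP (getW rw it.1) (get rm it.1) (apI it.2 1)) * 513 +
          apW it.2 (apP (getW rw it.1) (get rm it.1) (apI it.2 6)) + 1)
        else false else false else false else false else false) = true := h
    simp only [Bool.cond_eq_ite, Nat.blt_eq, Nat.beq_eq] at h'
    split_ifs at h' with h1 h2 h3 h4 h5
    have hr := hok _ h2
    have hs : sg (el LK rw rm it) = apW it.2 (apP (getW rw it.1) (get rm it.1) (apI it.2 1)) * 513 +
        apW it.2 (apP (getW rw it.1) (get rm it.1) (apI it.2 6)) + 1 := by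
      unfold sg el
      simp only [mul_smul, M.apW_eq h1, M.apP_eq hr, M.apI_eq h1]
      rfl
    rw [← hs] at h5 h'
    obtain ⟨k1, k2⟩ := ih h'
    refine ⟨fun jt hj => ?_, ?_⟩
    · rcases List.mem_cons.1 hj with rfl | hj
      · refine ⟨h2, ?_, ?_, h5⟩
        · unfold el
          rw [mul_smul, mul_smul, ← eq_inv_smul_iff, Fin.ext_iff, M.apP_eq hr, M.apI_eq h1]
          exact h3
        · unfold el
          rw [conj_pow, ← pow_mul, mul_smul, mul_smul, ← eq_inv_smul_iff, Fin.ext_iff, M.apP_eq hr, M.apI_eq h1]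
          exact h4
      · obtain ⟨a1, a2, a3, a4⟩ := k1 jt hj
        exact ⟨a1, a2, a3, h5.trans a4⟩
    · rw [List.map_cons, List.nodup_cons]
      refine ⟨fun hm => ?_, k2⟩
      obtain ⟨jt, hj, e⟩ := List.mem_map.1 hm
      exact absurd (k1 jt hj).2.2.2 (by rw [e]; exact lt_irrefl _)

/-- a lower bound for the size of an invariant set -/
theorem lower [Fintype K] (htr : ∀ p q : Fin 513, p ≠ q → ∃ g : K, g • (0 : Fin 513) = p ∧ g • (1 : Fin 513) = q)
    (S : K → Prop) [DecidablePred S] (hS : ∀ g k, S k → S (g * k * g⁻¹))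
    {rw : List (List ℕ)} {rm : List ℕ} {nr e k1 k2 : ℕ} (hnr : nr ≤ 2 ^ 6) (hr : chkReps rw rm nr e k1 k2 = true)
    {items : List (ℕ × List ℕ)} (h : chkC rw rm nr e items 0 = true)
    (hrep : ∀ i < nr, S (evG LK (getW rw i) ^ get rm i)) {lb : ℕ} (hk : 0 < k1 * k2)
    (hlb : lb * (k1 * k2) ≤ 262656 * items.length) : lb ≤ #{s | S s} := by
  classical
  have hr' : ∀ i < nr, okW 5 (getW rw i) = true ∧ cnt (getW rw i) (get rm i) ≤ k1 ∧
      cnt (getW rw i) (get rm i * e) ≤ k2 + 1 := by
    intro i hi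
    have a := allLt_spec hr hnr i hi
    simp only [Bool.cond_eq_ite, Nat.ble_eq] at a
    split_ifs at a with a1 a2
    exact ⟨a1, a2, by simpa [Nat.ble_eq] using a⟩
  obtain ⟨k3, k4⟩ := M.chkC_spec (fun i hi => (hr' i hi).1) h
  have hnd : (items.map (el LK rw rm)).Nodup := by
    refine List.Nodup.of_map sg ?_
    rw [List.map_map]; exact k4
  have hC := lemmaC (0 : Fin 513) 1 htr S e k1 k2 (items.map (el LK rw rm)).toFinset (by
    intro r hr
    obtain ⟨it, hit, rfl⟩ := List.mem_map.1 (List.mem_toFinset.1 hr)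
    obtain ⟨a1, a2, a3, -⟩ := k3 it hit
    obtain ⟨b1, b2, b3⟩ := hr' _ a1
    refine ⟨a2, a3, fun g => hS _ _ (hS _ _ (hrep _ a1)), ?_, ?_⟩
    · unfold el; rw [nfix_conj, M.cnt_eq b1]; exact b2
    · unfold el; rw [conj_pow, nfix_conj, ← pow_mul, M.cnt_eq b1]; exact b3)
  rw [List.toFinset_card_of_nodup hnd, List.length_map, Fintype.card_fin] at hC
  exact Nat.le_of_mul_le_mul_right (hlb.trans hC) hk

/-- the order of the group and the base -/
theorem base [Fintype K] (htr : ∀ p q : Fin 513, p ≠ q → ∃ g : K, g • (0 : Fin 513) = p ∧ g • (1 : Fin 513) = q)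
    (hK : Fintype.card K ≤ 16547328) {rw : List (List ℕ)} {rm : List ℕ} (hr : chkOk rw 63 = true)
    {items : List (ℕ × List ℕ)} (h : chkC rw rm 63 1 items 0 = true) (hl : items.length = 63) :
    Fintype.card K = 16547328 ∧
    Nat.card (MulAction.stabilizer K (0 : Fin 513) ⊓ MulAction.stabilizer K (1 : Fin 513) : Subgroup K) = 63 ∧
    ∀ k : K, k • (0 : Fin 513) = 0 → k • (1 : Fin 513) = 1 → k • (6 : Fin 513) = 6 → k = 1 := by
  classical
  obtain ⟨k3, k4⟩ := M.chkC_spec (fun i hi => allLt_spec hr (by decide) i hi) h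
  let H : Finset K := {k | k • (0 : Fin 513) = 0 ∧ k • (1 : Fin 513) = 1}
  have h1 : #H * #(univ : Finset (Fin 513)).offDiag ≤ #(univ.filter fun _ : K => True) := by
    refine mul_card_image_le_card_of_maps_to (f := fun k : K => (k • (0 : Fin 513), k • (1 : Fin 513))) ?_ _ ?_
    · intro k _
      rw [mem_offDiag]
      exact ⟨mem_univ _, mem_univ _, fun e => absurd (smul_left_cancel k e) (by decide)⟩
    · rintro ⟨p, q⟩ hpq
      obtain ⟨g, hg0, hg1⟩ := htr p q (mem_offDiag.1 hpq).2.2
      refine card_le_card_of_injOn (fun k => g * k) ?_ fun _ _ _ _ e => mul_left_cancel e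
      intro k hk
      simp only [H, coe_filter, mem_univ, true_and, Set.mem_ofPred_eq, mem_filter, and_self, Prod.mk.injEq] at hk ⊢
      rw [mul_smul, mul_smul, hk.1, hk.2]
      exact ⟨hg0, hg1⟩
  rw [offDiag_card, card_univ, Fintype.card_fin, filter_true, card_univ] at h1
  have h2 : (items.map fun it => sg (el LK rw rm it)).toFinset ⊆ H.image sg := by
    intro s hs
    obtain ⟨it, hit, rfl⟩ := List.mem_map.1 (List.mem_toFinset.1 hs)
    obtain ⟨-, a2, a3, -⟩ := k3 it hit
    rw [pow_one] at a3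
    exact mem_image_of_mem _ (by simp only [H, mem_filter, mem_univ, true_and]; exact ⟨a2, a3⟩)
  have h3 := card_le_card h2
  rw [List.toFinset_card_of_nodup k4, List.length_map, hl] at h3
  have h4 : #(H.image sg) ≤ #H := card_image_le
  have h5 : #H = 63 := by omega
  have h6 : Set.InjOn sg (H : Set K) := card_image_iff.1 (by omega)
  refine ⟨by omega, ?_, fun k a0 a1 a6 => h6 ?_ ?_ ?_⟩
  · rw [← h5, Nat.card_eq_fintype_card, Fintype.card_subtype]
    exact congrArg card (filter_congr fun _ _ => Iff.rfl)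
  · simp only [H, coe_filter, mem_univ, true_and, Set.mem_ofPred_eq]; exact ⟨a0, a1⟩
  · simp only [H, coe_filter, mem_univ, true_and, Set.mem_ofPred_eq, one_smul, and_self]
  · unfold sg; rw [a1, a6, one_smul, one_smul]

theorem eq_of_chk (hb : ∀ k : K, k • (0 : Fin 513) = 0 → k • (1 : Fin 513) = 1 → k • (6 : Fin 513) = 6 → k = 1)
    {u v : List ℕ} {k l : ℕ} (h : chkEq u k v l = true) : evG LK u ^ k = evG LK v ^ l := by
  obtain ⟨hu, hv⟩ := chkEq_ok h
  obtain ⟨a0, a1, a6⟩ := (M.chkEq_iff hu hv k l).1 h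
  rw [← inv_mul_eq_one]
  refine hb _ ?_ ?_ ?_ <;> rw [mul_smul, inv_smul_eq_iff]
  exacts [a0.symm, a1.symm, a6.symm]

theorem ord_of_chk (hb : ∀ k : K, k • (0 : Fin 513) = 0 → k • (1 : Fin 513) = 1 → k • (6 : Fin 513) = 6 → k = 1)
    {u : List ℕ} {n : ℕ} (hn : 0 < n) (hn' : n ≤ 2 ^ 5) (h : chkOrd u n = true) : orderOf (evG LK u) = n := by
  unfold chkOrd at h
  simp only [Bool.cond_eq_ite] at h
  split_ifs at h with h1
  rw [orderOf_eq_iff hn]
  refine ⟨by rw [M.eq_of_chk hb h1, pow_zero], fun m hm hm0 e => ?_⟩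
  have a := allLt_spec h hn' m hm
  simp only [Nat.beq_eq] at a
  rw [if_neg hm0.ne', if_pos ((M.chkEq_iff (chkEq_ok h1).1 (chkEq_ok h1).2 m 0).2 (by rw [e, pow_zero]; simp))] at a
  exact absurd a (by decide)

theorem rel_of_chk (hf : ∀ k : K, (∀ i : Fin 513, k • i = i) → k = 1) {L : List (List ℕ)} (h : chkPR L = true) :
    ∀ w ∈ L, evG LK w = 1 := by
  induction L with
  | nil => intro w hw; exact absurd hw List.not_mem_nil
  | cons v L ih =>
    have h' : (bif okW 5 v then bif allLt 10 513 (fun i => Nat.beq (apW v i) i) then chkPR L else false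
      else false) = true := h
    simp only [Bool.cond_eq_ite] at h'
    split_ifs at h' with h1 h2
    intro w hw
    rcases List.mem_cons.1 hw with rfl | hw
    · exact hf _ fun i => Fin.ext ((M.apW_eq h1 i).trans
        (Nat.eq_of_beq_eq_true (allLt_spec h2 (by decide) i i.2)))
    · exact ih h' w hw

end Model

end Cfsg.Agent.SP.PosB.HN
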