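import Cfsg.Agent.SP.Pos.HN.Abs
import Cfsg.Agent.SP.Basic

/-! # HN: the group generated by three elements satisfying the relators -/

set_option autoImplicit false

namespace Cfsg.Agent.SP.PosB.HN

open Cfsg.Agent.H651.HNF
open Cfsg.Agent.Lib.PackMatGroup (evG evG_map evG_nil evG_cons get)
open Cfsg.Agent.Lib.PackArr (fld allLt allLt_spec)

/-- a pair of inverse tables -/
noncomputable def okP (A B : ℕ) : Bool :=
  allLt 10 513 fun i => bif Nat.blt (fld 11 A i) 513 then Nat.beq (fld 11 B (fld 11 A i)) i else false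

theorem okP_spec {A B : ℕ} (h : okP A B = true) (i : Fin 513) : fld 11 A i < 513 ∧ fld 11 B (fld 11 A i) = i := by
  have a := allLt_spec h (by decide) i i.2
  simp only [Bool.cond_eq_ite, Nat.blt_eq] at a
  split_ifs at a with h1
  exact ⟨h1, Nat.eq_of_beq_eq_true a⟩

/-- the permutation given by tables -/
def pm (A B : ℕ) (h : okP A B = true) (h' : okP B A = true) : Equiv.Perm (Fin 513) where
  toFun i := ⟨fld 11 A i, (okP_spec h i).1⟩
  invFun i := ⟨fld 11 B i, (okP_spec h' i).1⟩
  left_inv i := Fin.ext (okP_spec h i).2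
  right_inv i := Fin.ext (okP_spec h' i).2

theorem ok01 : okP tG0 tG1 = true := by decide +kernel
theorem ok10 : okP tG1 tG0 = true := by decide +kernel
theorem ok23 : okP tG2 tG3 = true := by decide +kernel
theorem ok32 : okP tG3 tG2 = true := by decide +kernel
theorem ok44 : okP tG4 tG4 = true := by decide +kernel

/-- the permutations of the letters -/
def LP : List (Equiv.Perm (Fin 513)) :=
  [pm tG0 tG1 ok01 ok10, (pm tG0 tG1 ok01 ok10)⁻¹, pm tG2 tG3 ok23 ok32, (pm tG2 tG3 ok23 ok32)⁻¹, pm tG4 tG4 ok44 ok44]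

theorem modelP : Model (Equiv.Perm (Fin 513)) LP where
  act x hx i := by interval_cases x <;> rfl
  actI x hx i := by interval_cases x <;> rfl

theorem relP : ∀ w ∈ rels, evG LP w = 1 := modelP.rel_of_chk (fun _ h => Equiv.ext h) cPR

theorem relZ : ∀ w ∈ rels, evG LZ w = 1 := by decide +kernel

theorem evG_rep {G : Type*} [Group G] (L : List G) (n x : ℕ) : evG L (List.replicate n x) = L.getD x 1 ^ n := by
  induction n with
  | zero => rw [pow_zero]; rfl
  | succ n ih => rw [List.replicate_succ, evG_cons, ih, pow_succ']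

theorem bound {G : Type*} [Group G] (L : List G) (hrel : ∀ w ∈ rels, evG L w = 1) :
    Finite (gen L 5) ∧ Nat.card (gen L 5) ≤ 16547328 := by
  have hi : ∀ x y, [y, x] ∈ rels → L.getD y 1 = (L.getD x 1)⁻¹ := by
    intro x y h
    have := hrel _ h
    rw [evG_cons, evG_cons, evG_nil, mul_one] at this
    exact eq_inv_of_mul_eq_one_left this
  have h21 : L.getD 0 1 ^ 21 = 1 := by rw [← evG_rep]; exact hrel _ (by decide +kernel)
  have hf : Finite (Subgroup.zpowers (L.getD 0 1)) :=
    finite_zpowers.2 (isOfFinOrder_iff_pow_eq_one.2 ⟨21, by decide, h21⟩)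
  have hc : Nat.card (Subgroup.zpowers (L.getD 0 1)) ≤ 21 := by
    rw [Nat.card_zpowers]; exact orderOf_le_of_pow_eq_one (by decide) h21
  obtain ⟨hf4, hc4⟩ := certP.card_le L (Subgroup.zpowers (L.getD 0 1)) hrel
    (by
      intro x hx
      have hx' : x < 2 := hx
      interval_cases x
      · exact Subgroup.mem_zpowers _
      · rw [hi 0 1 (by decide +kernel)]; exact inv_mem (Subgroup.mem_zpowers _))
    (by
      intro x hx
      have hx' : x < 4 := hx
      interval_cases x
      exacts [⟨1, by decide, hi 0 1 (by decide +kernel)⟩, ⟨0, by decide, hi 1 0 (by decide +kernel)⟩,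
        ⟨3, by decide, hi 2 3 (by decide +kernel)⟩, ⟨2, by decide, hi 3 2 (by decide +kernel)⟩])
    (by decide) (by decide)
    (by
      intro x hx
      have hx' : x < 4 := hx
      interval_cases x
      exacts [chkP0, chkP1, chkP2, chkP3])
  obtain ⟨hf5, hc5⟩ := certG.card_le L (gen L certP.nl) hrel (fun x hx => letter_mem L hx)
    (by
      intro x hx
      have hx' : x < 5 := hx
      interval_cases x
      exacts [⟨1, by decide, hi 0 1 (by decide +kernel)⟩, ⟨0, by decide, hi 1 0 (by decide +kernel)⟩,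
        ⟨3, by decide, hi 2 3 (by decide +kernel)⟩, ⟨2, by decide, hi 3 2 (by decide +kernel)⟩,
        ⟨4, by decide, hi 4 4 (by decide +kernel)⟩])
    (by decide) (by decide)
    (by
      intro x hx
      have hx' : x < 5 := hx
      interval_cases x
      exacts [chkG0, chkG1, chkG2, chkG3, chkG4])
  refine ⟨hf5, hc5.trans ?_⟩
  have e1 : certP.n = 1536 := rfl
  have e2 : certG.n = 513 := rfl
  rw [e1] at hc4
  rw [e2]
  omega

theorem getD_map {G H : Type*} [Group G] [Group H] (f : G →* H) (L : List G) (x : ℕ) :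
    (L.map f).getD x 1 = f (L.getD x 1) := by
  have := evG_map f L [x]
  rwa [evG_cons, evG_cons, evG_nil, evG_nil, mul_one, mul_one] at this

/-- **A pair from elements satisfying the relators.** -/
theorem pairAut_of {T : Type} [Group T] [Finite T] {ty : T → Ty} (Tb : Table T ty)
    (haut : ∀ (τ : MulAut T) g, ty (τ g) = ty g) (h19 : ∀ g, ty g = .c19 → ¬ IsConj g g⁻¹)
    (tr : T → ZMod 31) (trc : ∀ g h, IsConj g h → tr g = tr h) (tr1 : tr 1 = 9) (h0 h1 h2 h3 h4 : T)
    (hrel : ∀ w ∈ rels, evG [h0, h1, h2, h3, h4] w = 1) (ts1 : tr (evG [h0, h1, h2, h3, h4] s1) = 7)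
    (ts2 : tr (evG [h0, h1, h2, h3, h4] [2, 2, 2, 2]) = 29) (ts3 : tr (evG [h0, h1, h2, h3, h4] s3) = 29)
    (tc : tr (evG [h0, h1, h2, h3, h4] [0, 0, 0, 0, 0, 0, 0]) = 7) (tx : tr (evG [h0, h1, h2, h3, h4] x19) = 0) :
    PairAut T := by
  let Γ := T × Equiv.Perm (Fin 513) × Z3
  let LG : List Γ := [(h0, LP.getD 0 1, 1), (h1, LP.getD 1 1, 1), (h2, LP.getD 2 1, Multiplicative.ofAdd 1),
    (h3, LP.getD 3 1, Multiplicative.ofAdd 2), (h4, LP.getD 4 1, 1)]
  let f1 : Γ →* T := MonoidHom.fst _ _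
  let f2 : Γ →* Equiv.Perm (Fin 513) := (MonoidHom.fst _ _).comp (MonoidHom.snd _ _)
  let f3 : Γ →* Z3 := (MonoidHom.snd _ _).comp (MonoidHom.snd _ _)
  have e1 : LG.map f1 = [h0, h1, h2, h3, h4] := rfl
  have e2 : LG.map f2 = LP := rfl
  have e3 : LG.map f3 = LZ := rfl
  have hG : ∀ w ∈ rels, evG LG w = 1 := by
    intro w hw
    refine Prod.ext ?_ (Prod.ext ?_ ?_)
    · show f1 (evG LG w) = 1
      rw [← evG_map, e1, hrel w hw]
    · show f2 (evG LG w) = 1
      rw [← evG_map, e2, relP w hw]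
    · show f3 (evG LG w) = 1
      rw [← evG_map, e3, relZ w hw]
  obtain ⟨hf, hc⟩ := bound LG hG
  let K := gen LG 5
  have := Fintype.ofFinite K
  let LK : List K := [⟨_, letter_mem LG (x := 0) (by decide)⟩, ⟨_, letter_mem LG (x := 1) (by decide)⟩,
    ⟨_, letter_mem LG (x := 2) (by decide)⟩, ⟨_, letter_mem LG (x := 3) (by decide)⟩,
    ⟨_, letter_mem LG (x := 4) (by decide)⟩]
  let ι : K →* T := f1.comp K.subtype
  let π : K →* Equiv.Perm (Fin 513) := f2.comp K.subtype
  let lam : K →* Z3 := f3.comp K.subtype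
  have g1 : LK.map ι = [h0, h1, h2, h3, h4] := rfl
  have g2 : LK.map π = LP := rfl
  have g3 : LK.map lam = LZ := rfl
  have hι : ∀ w, ι (evG LK w) = evG [h0, h1, h2, h3, h4] w := fun w => by rw [← evG_map, g1]
  let _ : MulAction K (Fin 513) := MulAction.compHom _ π
  have S : Setup ty LK ι lam tr :=
    { tb := Tb, h19 := h19
      M := ⟨fun x hx i => by
          rw [← modelP.act x hx, ← g2, getD_map]; rfl, fun x hx i => by
          rw [← modelP.actI x hx, ← g2, getD_map, ← map_inv]; rfl⟩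
      card := by rw [← Nat.card_eq_fintype_card]; exact hc
      lamL := g3, trc := trc, tr1 := tr1
      ts1 := by rw [hι, ts1], ts2 := by rw [hι, ts2], ts3 := by rw [hι, ts3], tc := by rw [hι, tc]
      tx := by rw [hι, tx] }
  let e : K ≃* ι.range := MonoidHom.ofInjective S.inj
  have he : ∀ k, (e k : T) = ι k := fun k => rfl
  refine ⟨ι.range, _, isPairAut_of_hom ?_ (lam.comp e.symm.toMonoidHom) ?_ ?_⟩
  · intro h
    have := Nat.card_congr e.toEquiv
    rw [h, Subgroup.card_top, Tb.card, Nat.card_eq_fintype_card, S.hcard] at this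
    exact absurd this (by decide)
  · obtain ⟨k, hk, -⟩ := S.main haut 1
    exact ⟨e k, by simpa using hk⟩
  · intro τ a
    obtain ⟨k, hk, hk'⟩ := S.main haut τ
    have key : ∀ c d : Z3, d ≠ 1 → c = d ^ 0 ∨ c = d ^ 1 ∨ c = d ^ 2 := by decide
    have : ∃ n : ℕ, lam (e.symm a) = lam k ^ n := by
      rcases key (lam (e.symm a)) _ hk with h | h | h <;> exact ⟨_, h⟩
    obtain ⟨n, hn⟩ := this
    refine ⟨e (k ^ n), ?_, ?_⟩
    · rw [he, map_pow, map_pow]; exact pow_mem hk' n
    · show lam (e.symm (e (k ^ n))) = lam (e.symm a)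
      rw [MulEquiv.symm_apply_apply, map_pow, hn]

end Cfsg.Agent.SP.PosB.HN
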