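import Cfsg.Agent.SP.Pos.HN.Act

/-! # HN: lists of elements of `U₃(8):3` -/

set_option autoImplicit false
set_option maxRecDepth 10000

namespace Cfsg.Agent.SP.PosB.HN

open Cfsg.Agent.Lib.PackMatGroup (asm)

/-- tree -/
def par1 : ℕ := asm 1024 [0x1a0340680c8190300600c01802e05c0b81702c0580b01602a0540a8140280500a01302604c09012024044088110220400801002003c0780f01c0380700d01a0340600c01802c0580b0160280500a014024048090100200400800e01c0380700c0180300600a014028050080100200400600c018030040080100200200400000,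
    0x1c03706e0dc1b03606c0d41a8340680d01a0330660cc198320640c4180300600c01782f05e0b81702d05a0b41682c0580b01602b0560a81502a0520a4148290500a01382704e0981302604c0941282504a0901202404608c1182304408811021042084108200400801001f03e07c0f01e03c0740e81d0380700d81b03606c0d,
    0xe17c2f05e0bc1782e85d0b81702e05b0b41682c8590b21602b8570ac1542a8530a4148288510a01402804f09e1382704e09a1342684c09612c2504a092124248490901202384708e1182304608a1142284508811022043086108210420821042004007e0fc1f83e07c0f81e83d07a0f41e03c0760ec1d83b0740e81d0390700e,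
    0x112223c4788e11c2384688d1182304588a1122204408610a21442083106208410811022044007f0fe1fc3f87e0fc1f43e87c0f81ec3d0790f21e43c0780f01e03b8770ec1d83a8740e81cc388710e01c03786f0dc1b43686c0d81b03586b0d61a8350690d21a0340680ce19c330660cc194320640c618c318620c41843005f0b,
    0x58eb1cc384708e01c03806f8df1ba3686d0d91ae3586a8d41a4348688d019c334660cc196328650ca19231c630c518a314620c3186304608c017c2f85e0bc1762d4590b11622c0578ae1582a8540a814e298528a4146288508a11402804f89e13a2744e09c13826c4d89a1322604c09812e2584b09512a2544a0921242484909,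
    0x1aa2f25bcb515f2ba564a694b2904e89c1362684b89592a25249c9292424647c8e91c2364688b1152264488810e21a428849032064047f8fd1ee3d0798f11e03b07]
/-- tree -/
def let1 : ℕ := asm 1024 [0x108c49c46342081211a4482d46620ca1198d90a38c440466341a44382329a0438118c30888cc6488d14233118d08c231a4598d22222198d068088469908c68344429a21a31b4446410c88888da0d11190d18d068c6444434631106a32222198d068888888c68346111111a2d08442234d111911a8d06888888d18d08c88886a0,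
    0x180308a09124161906180950350b40160a5108444598c22886446086d004421111481820c4886506a269940a2211124d02cc6946432844518d810921404462468]
theorem cT1 : chkT1 par1 let1 = true := by decide +kernel

/-- tree -/
def par2 : ℕ := asm 1024 [0x90f12e4280c81920a0605a88002e0c8708f90f40580b0161dc0540a84c0280500a01302604c1581202427c088110222f80801002003c0780f156038070a201a0344c80c01802c0580c0162180500a0141d80480906e020040080c001c0a8070a401803006012014028050380100200405000c018030320080100200200400000,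
    0x1c05406e0dc6e03906c0d41a8bd0680d01a14b08e5c4850620640c48f11b2f43181782f05e4741702d292610210310580b01602b0560a81507208053c371280980a02695104e2dc7a14704c3e41282504a090120241ee08c118231ea318a0922042084108ac0400801001f03e07c5381e03c0c40e81d0380704802e22c44c0e,
    0xe19c918ea0f23602e85d1c6640c305b14c280320590b2160749a03b8374c791e1561485a0f216e2e4378ed1bc1382704e108134269d31001cc2504a19a124248490901207404708e1b4230460e6114228451ec110220430861a8210420821cc200401780fc1f8e01820f84983d07a0f41e03c18a0ec1d83b2582e8458391140e,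
    0x31a823c4790b23c42c468d81663704588a112274c888618e320760d33ce364760a8102204ab8ba0fe1fc3f87e0fc1f43e9ae0f821c3d0f20f21e48e8780f01e04493d16e3e86b9793966a4388712fe74c3786f0dc1b4368c011453c7d94a1a03d0350c218862c3406831219c3e8660cc194c70641ae18c318ae0c4308301200b,
    0xa8f231a384709771c03806f8df3a23686d0d91ae3946a8d41a438c6896719c334660cc1d23409b9941da31c6316618a314621a42ae500609711a23885e0bc17634caa8e8232560578c0158568750a814e298a813c2fe598508a11402804f8c113a274688fd2183709b8b919c2604c09812e2584b12812a2544a0cd236440aa0d,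
    0x1b231c5ecbf1ce2ba794a694b2906589c136268734959532526bc9294f2467bc9e1292b651c8b1ba2724a08818127a4b0849512a2404e694a28e3d0db8f11e27407]
/-- tree -/
def let2 : ℕ := asm 1024 [0x108a4db45b40b05925a6882d22896886590c10834c14c069005a2cb25328b4114186926882cb4084d141b2112d04c229a4d94d301a2196d040868068308a68109828109a21b2c86410ca4536d105a0990d10d04da6414434530d06920cb0594db6d108808a6834510910da2d064120b4d00990da2d04986882d10d00c8088680,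
    0x34c90ca0512026d80c024868220a61a0022896404594c22486c260844a6432106532d829964b6186892194092182db0d02c96914914816d26980c14986d360168]
theorem cT2 : chkT2 par2 let2 = true := by decide +kernel

theorem cPR : chkPR rels = true := by decide +kernel

/-- word -/
def y1 : List ℕ := [1, 1, 3, 3, 0]
/-- word -/
def y3 : List ℕ := [2, 0]
/-- word -/
def v6 : List ℕ := [1, 1, 1, 2, 1, 3, 3, 0, 2, 0]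
/-- word -/
def s1 : List ℕ := [3, 1, 1, 3, 1, 3, 0, 3, 3, 0]
/-- word -/
def s3 : List ℕ := [2, 0, 2, 0, 2, 0, 2, 0]
/-- word -/
def x9 : List ℕ := [2, 4, 3, 4]
/-- word -/
def x9c : List ℕ := [1, 2, 4]
/-- word -/
def x19 : List ℕ := [0, 2, 4, 3]

/-- the two-point stabiliser -/
def wH : List (List ℕ) := [[],
  [0],
  [1],
  [3, 3, 3, 1, 1, 1, 1, 3, 3],
  [2, 2, 0, 0, 0, 0, 2, 2, 2],
  [0, 3, 1, 2, 2, 0, 0, 0, 2, 0],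
  [0, 2, 1, 2, 0, 2, 0, 2, 2, 0],
  [0, 0],
  [1, 1],
  [3, 0, 2, 2, 2, 0, 2, 0],
  [0, 3, 1, 1, 1, 3, 3, 0, 2],
  [3, 3, 1, 3, 1, 3, 0, 3, 1, 1],
  [2, 2, 0, 2, 2, 2, 1, 2, 2, 0],
  [0, 3, 1, 1, 1, 3, 3, 0, 2, 0],
  [0, 0, 0, 0],
  [3, 3, 0, 3, 3, 3, 1, 3, 3, 1],
  [1, 3, 1, 2, 2, 0, 0, 0, 2, 0],
  [2, 2, 0, 0, 0, 0, 2, 2, 2, 0],
  [2, 2, 0, 2, 2, 2, 1, 2, 2],
  [1, 1, 2, 1, 2, 0, 2, 0, 2, 2],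
  [3, 1, 2, 2, 0, 0, 0, 2, 0],
  [3, 3, 1, 3, 1, 3, 0, 3, 0],
  [2, 1, 2, 0, 2, 0, 2, 2, 0],
  [0, 0, 0],
  [1, 1, 1],
  [3, 1, 1, 1, 3, 3, 0, 2, 1],
  [1, 3, 1, 1, 1, 3, 3, 0, 2],
  [3, 0, 2, 2, 2, 0, 2, 0, 0],
  [3, 0, 2, 2, 2, 0, 2],
  [3, 3, 1, 3, 1, 3, 0, 3, 1],
  [3, 1, 3, 3, 3, 1, 2],
  [1, 3, 1, 1, 1, 3, 3, 0, 2, 1],
  [3, 1, 1, 1, 3, 3, 0, 2],
  [1, 3, 3, 1, 3, 1, 3, 0, 3],
  [3, 1, 3, 3, 3, 1, 2, 1],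
  [1, 1, 1, 1, 1, 1],
  [3, 3, 3, 1, 1, 1, 1, 3, 3, 0],
  [3, 3, 1, 3, 1, 3, 0, 3, 0, 0],
  [1, 3, 1, 2, 2, 0, 0, 0, 2],
  [3, 1, 1, 1, 3, 3, 0, 2, 0],
  [3, 3, 0, 3, 3, 3, 1, 3, 3, 0],
  [3, 1, 2, 2, 0, 0, 0, 2],
  [1, 1, 1, 1],
  [0, 0, 0, 0, 0],
  [2, 1, 2, 0, 2, 0, 2, 2, 0, 0],
  [1, 3, 3, 1, 3, 1, 3, 0, 3, 0],
  [2, 2, 0, 0, 0, 0, 2, 2, 2, 1],
  [1, 1, 1, 1, 1],
  [3, 3, 0, 3, 3, 3, 1, 3, 3],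
  [3, 1, 2, 2, 0, 0, 0, 2, 1],
  [3, 3, 3, 1, 1, 1, 1, 3, 3, 1],
  [3, 1, 1, 1, 3, 3, 0, 2, 1, 1],
  [1, 2, 1, 2, 0, 2, 0, 2, 2],
  [3, 3, 1, 3, 1, 3, 0, 3],
  [1, 3, 1, 1, 1, 3, 3, 0, 2, 0],
  [1, 2, 1, 2, 0, 2, 0, 2, 2, 0],
  [0, 3, 1, 2, 2, 0, 0, 0, 2],
  [0, 2, 1, 2, 0, 2, 0, 2, 2],
  [1, 1, 1, 1, 1, 1, 1],
  [0, 0, 0, 0, 0, 0, 0],
  [3, 1, 3, 3, 3, 1, 2, 1, 1],
  [0, 0, 0, 0, 0, 0],
  [2, 1, 2, 0, 2, 0, 2, 2]]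
/-- items -/
def iH : List (ℕ × List ℕ) := [(0, []), (1, []), (2, []), (3, []), (4, []), (5, []), (6, []), (7, []), (8, []), (9, []), (10, []), (11, []), (12, []), (13, []), (14, []), (15, []), (16, []), (17, []), (18, []), (19, []), (20, []), (21, []), (22, []), (23, []), (24, []), (25, []), (26, []), (27, []), (28, []), (29, []), (30, []), (31, []), (32, []), (33, []), (34, []), (35, []), (36, []), (37, []), (38, []), (39, []), (40, []), (41, []), (42, []), (43, []), (44, []), (45, []), (46, []), (47, []), (48, []), (49, []), (50, []), (51, []), (52, []), (53, []), (54, []), (55, []), (56, []), (57, []), (58, []), (59, []), (60, []), (61, []), (62, [])]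
theorem okH : chkOk wH 63 = true := by decide +kernel
theorem cH : chkC wH (List.replicate 63 1) 63 1 iH 0 = true := by decide +kernel
theorem lH : iH.length = 63 := by decide +kernel

/-- items -/
def i2B : List (ℕ × List ℕ) := [(0, [3, 1]), (0, [1, 1]), (0, [3, 0]), (0, [0, 0]), (0, [1]), (0, []), (0, [0])]
theorem r2B : chkReps [[2]] [6] 1 2 1 512 = true := by decide +kernel
theorem c2B : chkC [[2]] [6] 1 2 i2B 0 = true := by decide +kernel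
theorem l2B : i2B.length = 7 := by decide +kernel

/-- items -/
def i4A : List (ℕ × List ℕ) := [(0, [3, 1, 3]), (0, [2, 0, 2, 1]), (0, [2, 2, 0, 2]), (0, [0, 3, 0, 0]), (0, [3, 1, 2, 1]),
  (0, [0, 2, 0, 2, 1]), (0, [2, 1, 3, 1]), (0, [1, 2, 0, 0, 0, 0]), (0, [3, 3, 1, 3]), (0, [0, 2, 1, 1, 2, 0]),
  (0, [3, 0, 0]), (0, [0, 3, 0, 2, 0]), (0, [2, 2, 0, 2, 1]), (0, [1, 1, 2, 0]), (0, [0, 3, 1, 2, 1]),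
  (0, [1, 3, 1, 2, 1]), (0, [2, 1, 1, 2, 0]), (0, [1, 1, 3, 0, 2]), (0, [1, 2, 2, 2]), (0, [0, 2, 2]),
  (0, [2, 0, 0, 0, 0]), (0, [2, 0, 2, 0, 3]), (0, [3, 1, 1, 1, 3, 1]), (0, [3, 1, 3, 0, 2, 0]), (0, [1, 1, 3]),
  (0, [2, 2, 2]), (0, [2, 2, 0, 2, 2]), (0, [0, 0, 3, 0, 2, 0]), (0, [3, 0, 2, 0]), (0, [2, 1, 3, 1, 1]),
  (0, [1, 2, 2, 0, 2, 1]), (0, [2, 0, 2, 0, 3, 0]), (0, [1, 3]), (0, [3, 1, 3, 1]), (0, [1, 2, 0]),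
  (0, [1, 1, 1, 2, 0]), (0, [3, 0, 2, 2]), (0, [0, 0, 3, 1, 2, 1]), (0, [3, 0]), (0, [1, 1, 2, 2]),
  (0, [2, 0, 3]), (0, [0, 3, 3, 0, 0, 0]), (0, [1, 1, 1, 2, 1, 1]), (0, [3, 0, 2]), (0, [1, 3, 0, 2]),
  (0, [1, 1, 2, 2, 2]), (0, [3, 3, 0, 2]), (0, [2, 0, 3, 0]), (0, [2, 1, 3, 0]), (0, [2, 2]),
  (0, [0, 0, 3, 3, 1]), (0, [0, 0, 2, 1]), (0, [3, 3, 1, 3, 0]), (0, [3, 1]), (0, [3, 1, 2, 1, 3]),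
  (0, [2, 1]), (0, [3, 0, 2, 1, 1]), (0, [3, 3, 0, 0, 0]), (0, [2, 1, 3, 1, 3, 0]), (0, [2, 2, 0, 0, 3, 1]),
  (0, [0, 2, 2, 1]), (0, [0, 2, 0, 3, 0]), (0, [2, 1, 1, 2, 2]), (0, [0, 3, 1, 3, 0]), (0, [0, 2, 0, 3]),
  (0, [1, 1, 1, 3]), (0, [3, 0, 2, 1, 3]), (0, [0, 3, 1]), (0, [3, 0, 2, 0, 3]), (0, [1]),
  (0, [1, 3, 3, 0, 0, 0]), (0, []), (0, [2, 2, 2, 0, 2]), (0, [1, 3, 0, 2, 0]), (0, [1, 2, 1, 3]),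
  (0, [1, 3, 1, 1]), (0, [2, 2, 0, 3]), (0, [1, 2, 1, 1]), (0, [3, 0, 2, 0, 3, 0]), (0, [1, 2]),
  (0, [1, 3, 0, 2, 2]), (0, [2, 1, 3]), (0, [1, 1, 3, 0]), (0, [3, 0, 0, 0]), (0, [3, 1, 2, 0, 0, 0, 0]),
  (0, [1, 1, 1, 2, 1]), (0, [3]), (0, [0, 0, 3]), (0, [0, 2, 1, 3, 0]), (0, [3, 1, 2, 0]), (0, [1, 1, 2]),
  (0, [1, 1, 3, 1, 1]), (0, [2, 0]), (0, [0, 3, 1, 2, 0]), (0, [0, 0, 2]), (0, [3, 0, 0, 2]), (0, [0, 3, 0]),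
  (0, [1, 3, 0]), (0, [1, 2, 2]), (0, [1, 1, 2, 1, 1]), (0, [2, 1, 3, 0, 2]), (0, [0, 3, 3, 1]),
  (0, [2, 0, 3, 1]), (0, [2, 0, 3, 0, 0]), (0, [3, 0, 0, 3, 0]), (0, [2, 0, 2, 1, 1]), (0, [3, 1, 1, 2, 1]),
  (0, [1, 2, 0, 3, 0]), (0, [1, 3, 1, 3, 0]), (0, [3, 3, 1, 2, 0]), (0, [3, 0, 0, 3]), (0, [0, 0, 3, 1]),
  (0, [3, 3, 1, 2, 1]), (0, [3, 3]), (0, [3, 1, 2, 2, 0]), (0, [2, 1, 1]), (0, [2, 2, 2, 1]), (0, [0, 2, 1]),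
  (0, [0, 3]), (0, [2, 2, 1, 1, 2]), (0, [2, 0, 0, 0]), (0, [1, 1]), (0, [0, 2, 0, 0, 0]), (0, [0, 0, 0]),
  (0, [1, 1, 1, 3, 1]), (0, [0, 0, 0, 0, 0]), (0, [1, 3, 1]), (0, [1, 2, 1]), (0, [2, 1, 1, 2]),
  (0, [3, 1, 2, 2]), (0, [3, 0, 0, 2, 1]), (0, [2, 0, 2]), (0, [3, 3, 1]), (0, [2, 2, 1]), (0, [1, 1, 2, 1]),
  (0, [3, 0, 2, 1, 3, 0]), (0, [1, 2, 2, 0]), (0, [3, 1, 3, 0]), (0, [2, 2, 0]), (0, [0, 2, 2, 2, 1]),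
  (0, [3, 3, 0, 2, 2]), (0, [0]), (0, [2, 2, 0, 3, 0, 0]), (0, [2, 0, 2, 2]), (0, [3, 1, 1]),
  (0, [0, 2, 2, 0, 3]), (0, [2, 0, 0, 3, 1]), (0, [2, 2, 1, 3, 0]), (0, [0, 0, 2, 2, 2, 1]), (0, [2]),
  (0, [0, 2, 0]), (0, [0, 2, 1, 3]), (0, [0, 0, 2, 0]), (0, [0, 3, 1, 2, 2, 0]), (0, [0, 0, 0, 3]),
  (0, [0, 2, 1, 1]), (0, [0, 2]), (0, [2, 0, 3, 3]), (0, [0, 0, 3, 0]), (0, [0, 0]), (0, [1, 2, 0, 2, 2, 1]),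
  (0, [0, 0, 0, 0]), (0, [2, 1, 1, 3, 0]), (0, [0, 3, 3]), (0, [0, 2, 0, 2]), (0, [2, 0, 2, 2, 1]),
  (0, [1, 1, 3, 1]), (0, [0, 0, 0, 3, 0])]
theorem r4A : chkReps [y1] [3] 1 4 1 512 = true := by decide +kernel
theorem c4A : chkC [y1] [3] 1 4 i4A 0 = true := by decide +kernel
theorem l4A : i4A.length = 168 := by decide +kernel

/-- items -/
def i4C : List (ℕ × List ℕ) := [(0, [0, 2, 1, 1, 1]), (0, [0, 0, 0, 0]), (1, [3, 3, 0, 0, 2, 1]), (1, [0, 0, 2, 2]), (1, [2, 0, 2, 0, 2]),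
  (0, [0, 0, 2, 1, 1, 1]), (0, [2, 1, 1, 1]), (0, []), (0, [1, 1, 2, 2, 0]), (0, [0, 0, 3, 0, 0, 0, 0]),
  (1, [1, 2, 2, 0, 3, 0]), (1, [0, 0, 0, 2]), (1, [1, 1, 3, 0]), (0, [0, 0, 0, 0, 0]), (0, [0, 0, 0]),
  (0, [0, 2, 0, 3, 3, 0]), (1, [0, 3, 1, 3, 0]), (0, [2, 1, 3, 0]), (1, [0, 3, 0, 2]), (0, [2, 1, 3, 1]),
  (1, [2, 2, 0, 2, 2]), (1, [0, 3, 3, 1, 2]), (1, [3, 1, 2, 1, 1]), (1, [0, 0, 0, 2, 2]), (1, [0, 2, 2]),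
  (0, [2, 0, 3, 0, 0, 0, 0]), (1, [3, 1, 3, 0, 0]), (1, [3, 0, 2, 0, 3, 0]), (0, [3, 1]), (1, [1, 2, 2, 0, 2]),
  (0, [0, 0, 0, 2, 1]), (1, [3, 1, 2, 1, 3, 0]), (1, [3, 1, 2, 0, 0]), (0, [1, 3, 1]), (0, [2, 0, 2, 2, 0, 0]),
  (1, [0, 2, 1]), (0, [1, 2, 1, 1, 1]), (1, [2, 0, 3, 3, 0, 0]), (0, [0]), (0, [1]), (0, [3, 3, 1, 3, 1]),
  (1, [1, 1, 3, 3, 1]), (1, [1, 2, 2, 2, 0, 0]), (0, [1, 2, 2, 0]), (0, [3, 1, 3, 1]), (0, [2, 0, 2, 1]),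
  (1, [3, 1, 3, 3, 0, 2]), (0, [2, 1, 1, 1, 2, 0]), (0, [0, 3, 0, 0, 0, 0]), (1, []), (0, [0, 2, 1, 3, 0, 0]),
  (0, [1, 1, 2, 2, 0, 0]), (1, [3, 0]), (1, [2, 2, 0, 3, 0]), (0, [2, 0, 0, 2, 0]), (1, [1, 1, 2, 2]),
  (1, [0, 0]), (1, [1, 2, 1, 1, 3, 0]), (1, [3, 0, 2, 2]), (1, [0, 0, 2]), (1, [2, 0, 3, 1, 3, 0]),
  (1, [1, 3, 0]), (1, [1, 1, 1, 3, 0]), (1, [2, 1, 1, 1]), (0, [1, 2, 0]), (0, [0, 0, 0, 0, 0, 0]),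
  (1, [2, 0, 3, 3, 1]), (1, [0, 3, 3, 1, 3, 0]), (1, [3, 3, 1]), (0, [0, 0]), (1, [1, 3, 3, 0, 2]),
  (0, [2, 2, 1, 3, 1]), (0, [2, 0, 3, 3, 0]), (0, [3, 3, 0]), (1, [1, 1, 3, 3, 0]), (1, [3, 1, 3, 0]),
  (1, [2, 1, 3, 0, 0]), (1, [3, 3, 0, 0, 2]), (0, [2, 1, 3, 0, 0]), (0, [1, 2, 1, 3, 0]), (0, [2, 0, 0]),
  (0, [3, 0, 0, 3, 1]), (1, [3, 3, 1, 3, 0]), (1, [3, 0, 2]), (0, [0, 3, 0, 0]), (0, [3, 1, 1, 1, 1]),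
  (0, [2, 1, 3, 1, 1]), (0, [1, 3, 1, 3, 1]), (1, [2, 2, 0, 3, 3, 0]), (1, [0, 3, 3, 0]), (0, [1, 3, 1, 1]),
  (1, [0, 0, 3, 0]), (1, [3, 3, 1, 2]), (0, [0, 2, 2, 0]), (1, [0, 2, 0, 3, 0]), (1, [2, 0, 2, 2]),
  (1, [2, 2, 1, 1]), (0, [2, 0, 0, 0, 2, 0]), (0, [2, 1, 1]), (1, [1, 2, 0, 3, 0]), (1, [2, 2]),
  (0, [1, 2, 2, 0, 0]), (0, [3, 0, 2, 0, 2, 0]), (0, [2, 0, 3, 0, 0, 0]), (1, [0, 0, 2, 1]),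
  (1, [2, 0, 2, 2, 2, 0, 0]), (1, [1, 3, 1, 1]), (1, [2, 1, 1, 3, 0]), (0, [3, 0, 0, 0, 0, 0]),
  (1, [2, 0, 2, 1, 3, 1]), (1, [3, 1, 2, 2, 1, 1]), (1, [2, 0, 2, 0, 3, 0]), (0, [0, 3, 1]),
  (0, [2, 1, 3, 0, 0, 0]), (0, [0, 2, 1]), (1, [0, 2, 2, 0, 3, 0]), (0, [0, 3, 0, 2, 2, 0]),
  (0, [1, 1, 2, 0, 0, 0]), (1, [2, 2, 0, 2]), (1, [3, 1, 1, 3, 1]), (0, [1, 1, 3, 3, 0, 0]), (0, [0, 0, 2, 1]),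
  (0, [3, 1, 2, 0]), (1, [3, 1, 1, 1, 3, 0]), (1, [0, 2, 0, 2]), (0, [0, 2, 0, 0, 0]), (0, [1, 1, 1, 1, 1]),
  (1, [1]), (0, [1, 1, 3, 1]), (0, [1, 2, 0, 0, 0, 0]), (0, [3, 1, 3, 3, 0, 0]), (1, [1, 2, 2]),
  (1, [0, 2, 2, 0, 0]), (1, [2, 1, 3, 3, 0]), (1, [2, 1]), (1, [1, 2, 1, 1, 1]), (0, [2, 1, 3, 3, 1]),
  (0, [1, 1, 2, 1, 1, 1]), (0, [0, 0, 0, 2, 0]), (0, [1, 1, 1, 2, 0]), (1, [3, 3, 1, 2, 2]),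
  (1, [0, 2, 2, 2, 0, 0]), (1, [1, 2, 0, 2, 1]), (1, [3, 3, 0]), (0, [1, 1]), (1, [1, 3, 1, 3, 0]),
  (0, [1, 3, 0, 2, 0, 0]), (0, [0, 0, 2, 2, 2, 0]), (1, [1, 3, 3, 1]), (0, [0, 2, 0]), (0, [1, 3, 1, 1, 1]),
  (1, [2, 2, 2, 0, 0]), (0, [2, 0, 2, 1, 1]), (0, [3, 0, 2, 1, 1]), (0, [0, 0, 2, 0]), (0, [2, 0, 2, 0, 0]),
  (1, [2, 0, 0]), (0, [2, 2, 0]), (1, [3, 3, 1, 1]), (0, [0, 2, 0, 2, 1]), (0, [0, 2, 1, 1]), (1, [3, 0, 0]),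
  (1, [2, 1, 3, 0]), (1, [3, 1, 2, 2]), (0, [2, 1, 1, 1, 1]), (1, [1, 1, 2, 0, 0]), (0, [1, 1, 2, 0]),
  (0, [0, 2, 0, 2, 0]), (0, [3, 0, 0, 0, 0]), (1, [0, 3, 3, 1]), (0, [1, 1, 3, 1, 2, 0]), (1, [0]),
  (0, [1, 1, 1, 3, 0, 0, 0]), (0, [2, 0, 2, 0, 0, 0, 0]), (1, [3, 3, 0, 0, 3, 1]), (1, [0, 3, 0]),
  (0, [1, 2, 1, 1]), (1, [2, 1, 3, 1]), (0, [3, 0, 2, 2, 0, 0]), (0, [2, 0, 0, 2, 1]), (1, [1, 3, 0, 0]),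
  (0, [3, 1, 3, 3, 1]), (0, [0, 2, 2, 1, 1]), (1, [2, 0, 3, 1]), (1, [1, 1, 1, 2, 2]), (1, [3, 0, 2, 1, 3, 0]),
  (0, [3, 3, 1, 1]), (1, [0, 0, 0]), (1, [2, 2, 2, 0, 2]), (1, [3, 0, 0, 0]), (1, [3, 3, 0, 0, 0]),
  (0, [0, 3, 0, 2, 0, 0]), (1, [0, 3, 0, 0, 3, 0]), (1, [2, 0, 3, 3, 0]), (0, [1, 3, 0, 0, 3, 1]), (1, [0, 2]),
  (1, [3, 0, 2, 2, 0, 3, 0]), (1, [0, 0, 2, 0, 3, 0]), (1, [3, 3, 0, 0]), (0, [1, 3, 3, 0]),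
  (0, [0, 3, 1, 1, 1]), (1, [0, 2, 1, 1, 1]), (0, [2, 0]), (1, [2, 1, 3, 0, 2]), (0, [3, 0, 0, 2, 1]),
  (0, [1, 3, 0, 0, 0]), (1, [0, 0, 3, 3, 0]), (1, [2, 0, 0, 2]), (1, [3, 1]), (0, [0, 2, 0, 0]),
  (1, [1, 2, 2, 0, 3, 1]), (1, [3, 3, 0, 2]), (1, [0, 2, 0, 3, 1, 1]), (0, [0, 2, 2, 1, 3, 1]),
  (0, [0, 3, 3, 0]), (1, [2, 0, 3, 1, 1]), (1, [1, 3, 3, 0]), (0, [1, 1, 1, 1]), (0, [1, 1, 2, 0, 0]),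
  (1, [2, 0, 0, 2, 1]), (1, [1, 2, 1, 3, 0, 0]), (0, [1, 1, 3, 0]), (1, [1, 1, 2, 0, 3, 1]),
  (0, [2, 0, 0, 0, 0]), (1, [3, 1, 1]), (0, [3, 3, 1]), (0, [0, 2, 0, 2, 0, 0]), (1, [2, 2, 1, 1, 3, 0]),
  (0, [1, 2, 0, 0]), (1, [0, 2, 0, 2, 2]), (1, [0, 3, 0, 0, 0]), (0, [2, 0, 3, 1, 1]), (0, [0, 0, 3, 0, 0, 0]),
  (1, [1, 3, 0, 2]), (0, [0, 2, 1, 1, 2, 0]), (0, [0, 0, 3, 0, 0]), (0, [3, 0, 0]), (1, [3, 1, 2]),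
  (0, [1, 3, 1, 2, 0]), (1, [1, 2, 2, 1, 1]), (1, [3, 0, 0, 2, 1]), (1, [0, 3, 3, 0, 2]),
  (0, [3, 1, 1, 3, 1, 1]), (1, [1, 1, 3, 1]), (0, [3, 1, 2, 0, 0, 0]), (1, [1, 3, 0, 0, 2, 1]),
  (0, [2, 1, 1, 3, 1]), (1, [2, 1, 1, 2, 2]), (1, [3, 1, 3, 1, 2]), (0, [2, 1, 1, 2, 0]), (1, [1, 2, 0, 3, 1]),
  (0, [3, 1, 1]), (0, [1, 1, 3, 1, 1]), (0, [2, 1]), (1, [0, 2, 1, 3, 1]), (0, [0, 0, 2, 2, 0]),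
  (1, [2, 0, 2, 1]), (1, [2, 0, 3, 0]), (0, [1, 3, 0]), (0, [2, 2, 2, 1, 1]), (1, [2, 1, 1]),
  (1, [0, 0, 3, 3, 1]), (0, [1, 1, 3, 3, 1]), (0, [2, 2, 0, 0]), (1, [0, 3, 1]), (0, [0, 0, 3, 3, 0]),
  (1, [3, 3, 0, 0, 3, 0]), (0, [2, 0, 0, 2, 2, 0]), (0, [1, 2, 2, 2, 0]), (1, [2, 0, 3, 0, 0, 0]),
  (0, [0, 0, 3, 1]), (1, [0, 0, 0, 3, 1]), (0, [2, 0, 0, 0]), (0, [0, 3, 1, 3, 0]), (0, [0, 0, 3, 1, 1, 1]),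
  (0, [1, 1, 1, 3, 0]), (0, [3, 0, 2, 2, 0]), (1, [3, 0, 0, 3, 0]), (0, [1, 2, 0, 0, 0]),
  (0, [3, 0, 0, 0, 0, 0, 0]), (1, [1, 2, 1, 3, 0]), (1, [2, 0, 3, 0, 2]), (0, [1, 3, 3, 0, 0]), (1, [2]),
  (1, [2, 0, 2]), (1, [2, 2, 0, 3, 1]), (0, [3, 1, 2, 0, 0]), (0, [1, 1, 1, 1, 2, 0]), (0, [0, 0, 2, 0, 0, 0]),
  (1, [0, 0, 3, 1]), (1, [1, 1]), (1, [3, 0, 0, 3, 1]), (0, [1, 1, 1, 3, 1]), (0, [3, 0]), (0, [3, 1, 3, 0]),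
  (0, [1, 3, 3, 1]), (1, [0, 0, 2, 1, 1, 1]), (1, [1, 1, 1]), (1, [3, 1, 3, 1, 1]), (1, [2, 2, 0, 0]),
  (0, [3, 1, 1, 1]), (0, [0, 2, 2, 2, 0]), (0, [1, 1, 1]), (1, [1, 2, 1, 1]), (1, [3, 1, 1, 2, 0, 0]),
  (0, [3, 0, 2, 0, 0]), (0, [3, 0, 0, 0]), (0, [0, 0, 2, 0, 2, 0]), (0, [2, 2, 2, 0]), (1, [1, 2, 0, 0]),
  (1, [2, 0, 0, 0, 2]), (0, [0, 3, 1, 1]), (0, [0, 3, 3, 1]), (1, [0, 2, 1, 3, 0]), (0, [0, 3, 0, 0, 0]),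
  (0, [1, 3, 0, 0]), (0, [2, 0, 2, 0]), (0, [1, 3, 0, 0, 0, 0]), (0, [1, 1, 3, 0, 0, 0]), (1, [2, 1, 1, 3, 1]),
  (1, [0, 3, 3, 0, 0]), (1, [1, 2, 1, 3, 1]), (0, [2, 0, 2, 2, 0]), (0, [2, 2, 1, 1]), (1, [1, 3, 1, 2]),
  (0, [0, 2, 2, 0, 0]), (1, [1, 2]), (1, [1, 3, 0, 0, 0]), (0, [0, 0, 0, 3, 0, 0]), (0, [0, 2, 0, 2, 2, 0]),
  (0, [0, 2, 0, 0, 0, 0]), (1, [1, 3, 1]), (1, [3, 0, 0, 2]), (1, [0, 3, 1, 1]), (1, [3, 1, 3, 3, 0]),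
  (0, [3, 3, 0, 0])]
theorem r4C : chkReps [[2], y3] [3, 3] 2 4 1 512 = true := by decide +kernel
theorem c4C : chkC [[2], y3] [3, 3] 2 4 i4C 0 = true := by decide +kernel
theorem l4C : i4C.length = 336 := by decide +kernel

/-- items -/
def i3A : List (ℕ × List ℕ) := [(1, []), (0, [])]
theorem r3A : chkReps [[0], [0]] [7, 14] 2 1 9 8 = true := by decide +kernel
theorem c3A : chkC [[0], [0]] [7, 14] 2 1 i3A 0 = true := by decide +kernel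
theorem l3A : i3A.length = 2 := by decide +kernel

/-- items -/
def i6B : List (ℕ × List ℕ) := [(0, [0, 0, 0]), (1, [0, 0, 0]), (0, [1, 1]), (1, [1, 1]), (1, [1, 1, 1]), (0, [1, 1, 1]), (0, [0, 0]),
  (1, [0, 0]), (1, [1]), (0, [1]), (0, []), (1, []), (0, [0]), (1, [0])]
theorem r6B : chkReps [v6, v6] [1, 5] 2 2 1 8 = true := by decide +kernel
theorem c6B : chkC [v6, v6] [1, 5] 2 2 i6B 0 = true := by decide +kernel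
theorem l6B : i6B.length = 14 := by decide +kernel

/-- items -/
def i7 : List (ℕ × List ℕ) := [(0, [3, 1, 2, 2, 0, 0, 0, 2, 4]), (0, []), (0, [4]), (0, [3, 1, 2, 2, 0, 0, 0, 2]),
  (0, [3, 1, 1, 1, 3, 3, 0, 2, 4]), (0, [3, 1, 1, 1, 3, 3, 0, 2])]
theorem r7 : chkReps [[0]] [3] 1 1 2 1 = true := by decide +kernel
theorem c7 : chkC [[0]] [3] 1 1 i7 0 = true := by decide +kernel
theorem l7 : i7.length = 6 := by decide +kernel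

/-- items -/
def i21 : List (ℕ × List ℕ) := [(0, []), (1, [3, 1, 2, 2, 0, 0, 0, 2, 4]), (1, []), (0, [3, 1, 1, 1, 3, 3, 0, 2, 4]),
  (0, [3, 1, 2, 2, 0, 0, 0, 2]), (0, [3, 1, 2, 2, 0, 0, 0, 2, 4]), (1, [3, 1, 2, 2, 0, 0, 0, 2]), (0, [4]),
  (1, [3, 1, 1, 1, 3, 3, 0, 2, 4]), (1, [4]), (0, [3, 1, 1, 1, 3, 3, 0, 2]), (1, [3, 1, 1, 1, 3, 3, 0, 2])]
theorem r21 : chkReps [[0], [0]] [1, 2] 2 1 2 1 = true := by decide +kernel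
theorem c21 : chkC [[0], [0]] [1, 2] 2 1 i21 0 = true := by decide +kernel
theorem l21 : i21.length = 12 := by decide +kernel

/-- items -/
def i3Ac : List (ℕ × List ℕ) := [(0, [1, 1, 1, 2, 2]), (0, [0, 0, 0, 2, 2]), (0, [2, 2]), (0, [0, 0, 2, 2]), (0, [1, 1, 2, 2]),
  (0, [0, 2, 2]), (0, [1, 2, 2])]
theorem r3Ac : chkReps [y1] [4] 1 1 9 8 = true := by decide +kernel
theorem c3Ac : chkC [y1] [4] 1 1 i3Ac 0 = true := by decide +kernel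
theorem l3Ac : i3Ac.length = 7 := by decide +kernel

/-- items -/
def i3Bc : List (ℕ × List ℕ) := [(0, [3, 1, 3, 0, 2, 0, 0, 0]), (1, [3, 1, 3, 0, 0, 0]), (0, [0, 0, 2, 2, 0, 3, 0]), (0, [0, 2, 2, 0, 3, 0]),
  (0, [1, 1, 2, 2, 0, 3, 0]), (0, [2, 2, 0, 3, 0]), (0, [1, 2, 2, 0, 3, 0]), (1, [3, 0, 0, 0, 2, 2]),
  (1, [3, 3, 3, 0, 3, 0]), (1, [3, 1, 2, 0, 3, 0]), (0, [3, 1, 3, 1, 2, 0, 0]), (1, [3, 1, 2, 2, 1, 1]),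
  (1, [3, 0, 2, 2, 0, 0, 0]), (1, [2, 0, 3, 0, 0, 0])]
theorem r3Bc : chkReps [[2], y3] [4, 4] 2 1 9 8 = true := by decide +kernel
theorem c3Bc : chkC [[2], y3] [4, 4] 2 1 i3Bc 0 = true := by decide +kernel
theorem l3Bc : i3Bc.length = 14 := by decide +kernel

/-- items -/
def i6Bc : List (ℕ × List ℕ) := [(0, [0, 0, 0, 2, 2]), (0, [1, 1, 2, 2]), (0, [1, 1, 1, 2, 2]), (0, [0, 0, 2, 2]), (0, [1, 2, 2]),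
  (0, [2, 2]), (0, [0, 2, 2])]
theorem r6Bc : chkReps [y1] [10] 1 2 1 8 = true := by decide +kernel
theorem c6Bc : chkC [y1] [10] 1 2 i6Bc 0 = true := by decide +kernel
theorem l6Bc : i6Bc.length = 7 := by decide +kernel

/-- items -/
def i6Cc : List (ℕ × List ℕ) := [(1, [2, 0, 3, 0, 0, 0]), (0, [3, 1, 3, 0, 2, 0, 0, 0]), (1, [3, 1, 3, 0, 0, 0]), (0, [1, 2, 2, 0, 3, 0]),
  (1, [3, 3, 3, 0, 3, 0]), (0, [1, 1, 2, 2, 0, 3, 0]), (1, [3, 1, 2, 2, 1, 1]), (0, [3, 1, 3, 1, 2, 0, 0]),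
  (0, [2, 2, 0, 3, 0]), (1, [3, 0, 2, 2, 0, 0, 0]), (1, [3, 1, 2, 0, 3, 0]), (0, [0, 2, 2, 0, 3, 0]),
  (1, [3, 0, 0, 0, 2, 2]), (0, [0, 0, 2, 2, 0, 3, 0])]
theorem r6Cc : chkReps [[2], y3] [10, 10] 2 2 1 8 = true := by decide +kernel
theorem c6Cc : chkC [[2], y3] [10, 10] 2 2 i6Cc 0 = true := by decide +kernel
theorem l6Cc : i6Cc.length = 14 := by decide +kernel

/-- items -/
def i12Bc : List (ℕ × List ℕ) := [(0, [2, 2, 1, 3, 1, 1, 2, 0]), (0, [2, 0, 2, 0, 3, 1, 3, 0]), (0, [1, 2, 1, 3, 1, 1, 2, 0]),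
  (0, [2, 2, 0, 2, 0, 3, 0]), (0, [0, 0, 2, 2]), (0, [3, 3, 0, 2, 0, 2, 2]), (0, [3, 3, 3, 1, 2, 1, 2, 2]),
  (0, [1, 2, 0, 2, 1, 1, 2]), (0, [2, 1, 3, 1, 1, 2, 0]), (0, [2, 2, 2, 0, 0, 3, 1, 1]),
  (0, [3, 1, 2, 2, 1, 2, 2]), (0, [0, 0, 2, 1, 3, 3, 1, 2]), (0, [0, 0, 0, 2, 2]), (0, [0, 2, 2]),
  (0, [3, 3, 0, 3, 3, 3, 1]), (0, [2, 0, 2, 0, 3, 3]), (0, [2, 2, 1, 1, 1, 1, 1]), (0, [2, 0, 2, 1, 1, 2]),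
  (0, [0, 2, 1, 3, 1, 1, 2, 0]), (0, [3, 1, 1, 2, 0, 2]), (0, [1, 1, 1, 1, 1, 2, 2]),
  (0, [0, 2, 0, 2, 0, 3, 3]), (0, [1, 1, 1, 2, 2]), (0, [0, 2, 1, 3, 3, 1, 2]), (0, [0, 2, 1, 1, 2, 2]),
  (0, [0, 0, 0, 0, 2, 2]), (0, [3, 1, 1, 1, 1, 2, 2]), (0, [0, 2, 2, 1, 1, 1, 1, 1]), (0, [2, 2]),
  (0, [3, 0, 0, 0, 2, 2]), (0, [3, 1, 2, 1, 3, 1, 3, 0]), (0, [1, 2, 1, 1, 2, 2]), (0, [1, 2, 2]),
  (0, [2, 1, 3, 3, 1, 2]), (0, [1, 3, 1, 1, 2, 0, 2]), (0, [1, 1, 1, 1, 2, 2]), (0, [1, 2, 1, 2, 2, 0, 2, 1]),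
  (0, [0, 0, 0, 0, 0, 2, 2]), (0, [1, 1, 2, 2]), (0, [2, 1, 1, 2, 2]), (0, [2, 2, 1, 2, 2, 0, 3, 0]),
  (0, [2, 1, 2, 2, 0, 2, 1])]
theorem r12Bc : chkReps [y1] [1] 1 4 1 8 = true := by decide +kernel
theorem c12Bc : chkC [y1] [1] 1 4 i12Bc 0 = true := by decide +kernel
theorem l12Bc : i12Bc.length = 42 := by decide +kernel

/-- items -/
def i12Cc : List (ℕ × List ℕ) := [(1, [0, 3, 1, 3, 0, 0, 0]), (0, [1, 1, 2, 2, 0, 3, 0]), (1, [0, 3, 1, 1, 1, 1, 1]),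
  (0, [3, 3, 3, 1, 1, 3, 0, 0]), (1, [2, 0, 0, 3, 0, 3, 1]), (1, [3, 1, 3, 0, 0, 0]),
  (1, [3, 0, 0, 0, 2, 0, 0, 0]), (1, [0, 2, 0, 0, 3, 0, 3, 1]), (1, [3, 1, 2, 2, 1, 1]),
  (0, [1, 2, 2, 0, 3, 0]), (0, [1, 1, 1, 2, 2, 0, 3, 0]), (0, [1, 3, 1, 3, 1, 2, 0, 0]),
  (1, [1, 3, 3, 3, 0, 3, 0]), (1, [1, 1, 3, 3, 3, 0, 3, 0]), (1, [3, 1, 1, 1, 1, 1]), (1, [2, 0, 2, 2, 1, 2]),
  (0, [3, 3, 0, 0, 3, 3, 1]), (0, [3, 1, 2, 2, 1, 3, 3, 0]), (0, [3, 3, 1, 1, 3, 0, 0, 0]),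
  (0, [3, 3, 1, 1, 1, 1, 1, 1]), (1, [0, 3, 3, 3, 0, 3, 0]), (1, [1, 3, 1, 3, 0, 0, 0]),
  (1, [2, 2, 0, 3, 0, 0, 2]), (1, [0, 2, 0, 3, 1, 1, 1]), (1, [1, 2, 0, 3, 1, 1, 1]),
  (1, [3, 1, 1, 2, 0, 2, 2, 1]), (1, [3, 1, 3, 3, 1, 3, 0, 2]), (0, [1, 2, 2, 0, 0, 3, 0, 0]),
  (0, [0, 2, 2, 0, 3, 0]), (1, [1, 3, 1, 2, 2, 1, 1]), (1, [2, 0, 3, 0, 0, 0]), (1, [3, 0, 2, 0, 0, 0, 3, 0]),
  (0, [1, 3, 1, 3, 0, 2, 0, 0, 0]), (0, [3, 1, 3, 0, 2, 0, 0, 0]), (1, [1, 1, 3, 1, 2, 2, 1, 1]),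
  (1, [1, 3, 1, 1, 1, 1, 1]), (0, [2, 2, 0, 3, 0]), (0, [0, 3, 1, 2, 1, 3, 0]), (0, [2, 0, 0, 3, 0, 2, 2, 0]),
  (0, [2, 1, 1, 2, 1, 3, 1, 1]), (0, [3, 1, 3, 1, 2, 0, 0]), (1, [3, 3, 3, 0, 3, 0]),
  (1, [0, 0, 3, 1, 2, 0, 3, 0]), (0, [2, 2, 1, 1, 3, 3, 0, 0]), (1, [0, 0, 3, 3, 3, 0, 3, 0]),
  (1, [2, 2, 1, 3, 3, 1, 3, 0]), (0, [3, 3, 3, 3, 0, 0, 0]), (1, [1, 3, 0, 0, 0, 2, 2]),
  (1, [0, 2, 0, 2, 2, 1, 2]), (0, [3, 0, 0, 3, 0, 2, 0, 0]), (0, [0, 0, 2, 2, 0, 3, 0]),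
  (0, [3, 3, 0, 0, 0, 0, 2, 0]), (0, [3, 0, 2, 1, 3, 1, 3, 1]), (1, [2, 1, 2, 0, 0, 0, 3, 0]),
  (0, [2, 0, 2, 1, 3, 3, 0, 0]), (0, [2, 1, 1, 2, 2, 2, 2, 0]), (0, [2, 0, 2, 2, 1, 1, 3, 1]),
  (0, [0, 2, 2, 0, 3, 3, 1, 3, 0]), (0, [3, 0, 2, 2, 1, 2, 0, 0]), (1, [2, 0, 3, 1, 1, 1]),
  (1, [3, 1, 2, 0, 3, 0]), (1, [1, 1, 3, 1, 3, 0, 0, 0]), (1, [2, 0, 3, 0, 2, 0, 3, 0]),
  (1, [3, 0, 2, 2, 0, 0, 0]), (0, [3, 1, 2, 1, 2, 2, 0, 0]), (1, [2, 1, 2, 2, 1, 2, 1, 1]),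
  (0, [2, 2, 0, 0, 3, 0, 0]), (1, [2, 2, 1, 1, 2, 2]), (0, [3, 0, 2, 1, 3, 3, 3, 0]),
  (1, [1, 3, 1, 2, 0, 3, 0]), (1, [1, 3, 0, 2, 2, 0, 0, 0]), (0, [0, 3, 0, 0, 3, 0, 2, 0, 0]),
  (0, [3, 0, 2, 0, 2, 0, 3, 0]), (0, [3, 3, 0, 2, 2, 2, 0, 0]), (0, [3, 3, 0, 3, 3, 1, 2, 0]),
  (0, [2, 2, 0, 3, 3, 1, 3, 0]), (0, [3, 1, 2, 1, 3, 0]), (0, [2, 1, 3, 1, 3, 3, 0, 0]),
  (0, [0, 3, 1, 3, 1, 2, 0, 0]), (1, [3, 0, 0, 0, 2, 2]), (1, [0, 3, 1, 2, 0, 3, 0]),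
  (0, [2, 2, 0, 0, 2, 0, 0, 0]), (0, [0, 0, 0, 2, 2, 0, 3, 0]), (1, [3, 3, 0, 2, 1, 2, 0, 2])]
theorem r12Cc : chkReps [[2], y3] [1, 1] 2 4 1 8 = true := by decide +kernel
theorem c12Cc : chkC [[2], y3] [1, 1] 2 4 i12Cc 0 = true := by decide +kernel
theorem l12Cc : i12Cc.length = 84 := by decide +kernel

theorem oy1 : chkOrd y1 12 = true := by decide +kernel
theorem oy2 : chkOrd [2] 12 = true := by decide +kernel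
theorem oy3 : chkOrd y3 12 = true := by decide +kernel
theorem oa : chkOrd [0] 21 = true := by decide +kernel
theorem ov : chkOrd v6 6 = true := by decide +kernel
theorem ox9 : chkOrd x9 9 = true := by decide +kernel
theorem ox9c : chkOrd x9c 9 = true := by decide +kernel
theorem ox19 : chkOrd x19 19 = true := by decide +kernel
theorem ev2 : chkEq v6 2 [0] 14 = true := by decide +kernel
theorem ev3 : chkEq v6 3 [2] 6 = true := by decide +kernel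
theorem ey1 : chkEq y1 6 [2] 6 = true := by decide +kernel
theorem es1 : chkEq s1 1 y1 4 = true := by decide +kernel
theorem es3 : chkEq s3 1 y3 4 = true := by decide +kernel
theorem es2 : chkEq [2, 2, 2, 2] 1 [2] 4 = true := by decide +kernel
theorem ec : chkEq [0, 0, 0, 0, 0, 0, 0] 1 [0] 7 = true := by decide +kernel
theorem fx9 : cnt x9 3 = 0 := by decide +kernel

end Cfsg.Agent.SP.PosB.HN
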